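import Cfsg.Agent.ExtremelyClosed.Main
import Cfsg.Agent.PLocal.Cores
import Cfsg.Agent.Solvable.Hall
import Mathlib.GroupTheory.GroupAction.ConjAct

/-!
# Extremely closed abelian 2-subgroups: factorisation `G = N(H) O(G)`

`exists_cover` is proved by induction on the order, reducing to `false_of_setting`.
-/

set_option autoImplicit false
set_option linter.style.haveILetI false

namespace CfsgLib.ExtremelyClosed

open Cfsg

universe u

variable {G : Type u} [Group G]

theorem odd_card_oddCore' (G : Type u) [Group G] [Finite G] :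
    Odd (Nat.card (Cfsg.oddCore G)) :=
  Nat.coprime_two_right.mp (PLocal.coprime_card_pPrimeCore 2 G)

theorem le_oddCore_of_odd {N : Subgroup G} (hn : N.Normal) (ho : Odd (Nat.card N)) :
    N ≤ Cfsg.oddCore G :=
  LocalEven50.le_pPrimeCore hn (Nat.coprime_two_right.2 ho)

variable [Finite G]

/-- Frattini argument for `H` acting on a normal subgroup of odd order. -/
theorem exists_normalizer_mul {H O : Subgroup G} [O.Normal] (hH2 : IsPGroup 2 H)
    (hO : Odd (Nat.card O)) {y : G} (hy : ∀ h ∈ H, y * h * y⁻¹ ∈ H ⊔ O) :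
    ∃ n ∈ Subgroup.normalizer (H : Set G), n⁻¹ * y ∈ O := by
  haveI : Fact (Nat.Prime 2) := ⟨Nat.prime_two⟩
  obtain ⟨L, hL⟩ : ∃ L, L = H ⊔ O := ⟨_, rfl⟩
  rw [← hL] at hy
  have hHL : H ≤ L := hL ▸ le_sup_left
  obtain ⟨e, he⟩ := IsPGroup.iff_card.1 hH2
  have hinf : H ⊓ O = ⊥ := (Subgroup.disjoint_of_coprime_natCard (he ▸
    Nat.Coprime.pow_left _ (Nat.coprime_two_left.2 hO))).eq_bot
  have hcard : Nat.card L = Nat.card H * Nat.card O := by
    have := LocalEven50.card_sup_mul_card_inf H O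
    rw [hinf, Subgroup.card_bot, mul_one, ← hL] at this
    exact this
  have hidx : (H.subgroupOf L).index = Nat.card O := by
    have h := Subgroup.card_mul_index (H.subgroupOf L)
    rw [Nat.card_congr (Subgroup.subgroupOfEquivOfLe hHL).toEquiv, hcard] at h
    exact Nat.eq_of_mul_eq_mul_left Nat.card_pos h
  have hp : IsPGroup 2 (H.subgroupOf L) := hH2.of_equiv (Subgroup.subgroupOfEquivOfLe hHL).symm
  let P : Sylow 2 L := hp.toSylow (by rw [hidx]; exact hO.not_two_dvd_nat)
  let H' : Subgroup G := H.map (MulAut.conj y).toMonoidHom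
  have hH'L : H' ≤ L := by
    rintro _ ⟨h, hh, rfl⟩
    exact hy h hh
  have hp' : IsPGroup 2 (H'.subgroupOf L) :=
    (hH2.map (MulAut.conj y).toMonoidHom).of_equiv (Subgroup.subgroupOfEquivOfLe hH'L).symm
  obtain ⟨Q, hQ⟩ := hp'.exists_le_sylow
  obtain ⟨l, hl⟩ := MulAction.exists_smul_eq L P Q
  have hlL : (l : G) ∈ O ⊔ H := by
    rw [sup_comm, ← hL]; exact l.2
  obtain ⟨o, ho, h₀, hh₀, hloh⟩ := Subgroup.mem_sup_of_normal_left.1 hlL
  have hmem : ∀ h ∈ H, o⁻¹ * y * h * (o⁻¹ * y)⁻¹ ∈ H := by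
    intro h hh
    have hmQ : (⟨y * h * y⁻¹, hy h hh⟩ : L) ∈ (Q : Subgroup L) := hQ ⟨h, hh, rfl⟩
    rw [← hl, Sylow.coe_subgroup_smul, Subgroup.mem_pointwise_smul_iff_inv_smul_mem] at hmQ
    have hb : (l : G)⁻¹ * (y * h * y⁻¹) * l ∈ H := by
      simpa [P, Subgroup.mem_subgroupOf, mul_assoc] using hmQ
    have e : o⁻¹ * y * h * (o⁻¹ * y)⁻¹ = h₀ * ((l : G)⁻¹ * (y * h * y⁻¹) * l) * h₀⁻¹ := by
      rw [← hloh]; group
    rw [e]
    exact mul_mem (mul_mem hh₀ hb) (inv_mem hh₀)
  refine ⟨o⁻¹ * y, ?_, ?_⟩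
  · have heq : H.map (MulAut.conj (o⁻¹ * y)).toMonoidHom = H :=
      Subgroup.eq_of_le_of_card_ge (by rintro _ ⟨h, hh, rfl⟩; exact hmem h hh)
        (by rw [Subgroup.card_map_of_injective (MulAut.conj _).injective])
    refine Subgroup.mem_normalizer_iff.2 fun h => ⟨hmem h, fun hh => ?_⟩
    rw [← heq] at hh
    obtain ⟨k, hk, hke⟩ := hh
    exact (MulAut.conj (o⁻¹ * y)).injective hke ▸ hk
  · have e : (o⁻¹ * y)⁻¹ * y = y⁻¹ * o * y⁻¹⁻¹ := by group
    rw [e]
    exact (inferInstance : O.Normal).conj_mem o ho y⁻¹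

omit [Finite G] in
theorem mk_mem_map_iff {H N : Subgroup G} [N.Normal] {x : G} :
    QuotientGroup.mk' N x ∈ H.map (QuotientGroup.mk' N) ↔ x ∈ H ⊔ N := by
  rw [← Subgroup.mem_comap, QuotientGroup.comap_map_mk', sup_comm]

omit [Finite G] in
theorem map_conj_map (H N : Subgroup G) [N.Normal] (g : G) :
    (H.map (QuotientGroup.mk' N)).map (MulAut.conj (QuotientGroup.mk' N g)).toMonoidHom =
      (H.map (MulAut.conj g).toMonoidHom).map (QuotientGroup.mk' N) := by
  rw [Subgroup.map_map, Subgroup.map_map]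
  congr 1

/-- An element normalising the image of `H` conjugates `H` into `H N`. -/
theorem conj_mem_sup_of_mk_mem_normalizer {H N : Subgroup G} [N.Normal] {x : G}
    (hx : QuotientGroup.mk' N x ∈
      Subgroup.normalizer ((H.map (QuotientGroup.mk' N) : Subgroup (G ⧸ N)) : Set (G ⧸ N)))
    {h : G} (hh : h ∈ H) : x * h * x⁻¹ ∈ H ⊔ N := by
  have h1 := (Subgroup.mem_normalizer_iff.1 hx _).1
    (Subgroup.mem_map_of_mem (QuotientGroup.mk' N) hh)
  rw [← map_inv, ← map_mul, ← map_mul] at h1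
  exact mk_mem_map_iff.1 h1

/-- Passing to `G / O` for `O` of odd order. -/
theorem isExtremelyClosed_map_odd {H O : Subgroup G} [O.Normal] (hH2 : IsPGroup 2 H)
    (hHab : IsMulCommutative H) (hcl : IsExtremelyClosed H) (hO : Odd (Nat.card O)) :
    IsExtremelyClosed (H.map (QuotientGroup.mk' O)) := by
  intro g
  obtain ⟨g, rfl⟩ := QuotientGroup.mk'_surjective O g
  refine le_antisymm ?_ (le_inf le_sup_left Subgroup.le_normalizer)
  rintro x ⟨hx1, hx2⟩
  rw [map_conj_map, ← Subgroup.map_sup] at hx1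
  obtain ⟨w, hw, rfl⟩ := hx1
  obtain ⟨R, hR, -, hXR, -⟩ := exists_kernel hH2 hHab hcl g
  obtain ⟨r, hr, h, hh, rfl⟩ := Coprime.exists_mul_of_mem_sup hR.le_normalizer (hXR hw)
  let C : Subgroup G := (Subgroup.normalizer
    ((H.map (QuotientGroup.mk' O) : Subgroup (G ⧸ O)) : Set (G ⧸ O))).comap (QuotientGroup.mk' O)
  have hHC : H ≤ C := fun k hk =>
    Subgroup.le_normalizer (Subgroup.mem_map_of_mem (QuotientGroup.mk' O) hk)
  have hrC : r ∈ C := by
    have h1 : r * h ∈ C := hx2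
    simpa [mul_assoc] using mul_mem h1 (inv_mem (hHC hh))
  have hR' : IsKer H (R ⊓ C) :=
    ⟨hR.odd.of_dvd_nat (Subgroup.card_dvd_of_le inf_le_left),
      (le_inf hR.le_normalizer (hHC.trans Subgroup.le_normalizer)).trans
        Subgroup.inf_normalizer_le_normalizer_inf,
      eq_bot_iff.2 (hR.inf_eq ▸ inf_le_inf_right _ inf_le_left)⟩
  have hrO : r ∈ O := hR'.le_of_cover (θ := O) (C := C) hH2 hHab inf_le_right hHC
    (fun k _ => by simp [Subgroup.normalizer_eq_top]) hO
    (fun y hy => exists_normalizer_mul hH2 hO fun k hk =>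
      conj_mem_sup_of_mk_mem_normalizer hy hk) ⟨hr, hrC⟩
  exact mk_mem_map_iff.2 (mul_mem (Subgroup.mem_sup_right hrO) (Subgroup.mem_sup_left hh))

/-- Passing to `G / Z` for `Z ≤ H`. -/
theorem isExtremelyClosed_map_le {H Z : Subgroup G} [Z.Normal] (hcl : IsExtremelyClosed H)
    (hZ : Z ≤ H) : IsExtremelyClosed (H.map (QuotientGroup.mk' Z)) := by
  intro g
  obtain ⟨g, rfl⟩ := QuotientGroup.mk'_surjective Z g
  refine le_antisymm ?_ (le_inf le_sup_left Subgroup.le_normalizer)
  rintro x ⟨hx1, hx2⟩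
  rw [map_conj_map, ← Subgroup.map_sup] at hx1
  obtain ⟨w, hw, rfl⟩ := hx1
  refine Subgroup.mem_map_of_mem _ ?_
  have hN : w ∈ Subgroup.normalizer (H : Set G) := by
    have hmem : ∀ {v : G}, QuotientGroup.mk' Z v ∈ H.map (QuotientGroup.mk' Z) ↔ v ∈ H :=
      fun {v} => by rw [mk_mem_map_iff, sup_eq_left.2 hZ]
    refine Subgroup.mem_normalizer_iff.2 fun h => ?_
    rw [← hmem (v := h), ← hmem (v := w * h * w⁻¹), map_mul, map_mul, map_inv]
    exact Subgroup.mem_normalizer_iff.1 hx2 _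
  have h1 : w ∈ (H ⊔ H.map (MulAut.conj g).toMonoidHom) ⊓ Subgroup.normalizer (H : Set G) :=
    ⟨hw, hN⟩
  rwa [hcl g] at h1

/-- The odd core of `G / Z`, `Z` central of order 2, is trivial if that of `G` is. -/
theorem eq_bot_of_quotient_center {z : G} (hz : orderOf z = 2) (hzc : z ∈ Subgroup.center G)
    [(Subgroup.zpowers z).Normal]
    (hO : ∀ N : Subgroup G, N.Normal → Odd (Nat.card N) → N = ⊥)
    (N : Subgroup (G ⧸ Subgroup.zpowers z)) [N.Normal] (hN : Odd (Nat.card N)) : N = ⊥ := by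
  haveI : Fact (Nat.Prime 2) := ⟨Nat.prime_two⟩
  obtain ⟨P, hP⟩ : ∃ P, P = N.comap (QuotientGroup.mk' (Subgroup.zpowers z)) := ⟨_, rfl⟩
  haveI hPn : P.Normal := hP ▸ Subgroup.Normal.comap inferInstance _
  have hZP : Subgroup.zpowers z ≤ P := by
    intro x hx
    rw [hP, Subgroup.mem_comap, (QuotientGroup.eq_one_iff x).2 hx |>
      (fun h => show QuotientGroup.mk' (Subgroup.zpowers z) x = 1 from h)]
    exact N.one_mem
  have hidx : ((Subgroup.zpowers z).subgroupOf P).index = Nat.card N := by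
    have h := Subgroup.card_mul_index ((Subgroup.zpowers z).subgroupOf P)
    rw [Nat.card_congr (Subgroup.subgroupOfEquivOfLe hZP).toEquiv, Nat.card_zpowers, hz, hP,
      Solvable.card_comap_mk'] at h
    rw [Nat.card_zpowers, hz] at h
    rw [hP]
    omega
  have hp : IsPGroup 2 ((Subgroup.zpowers z).subgroupOf P) :=
    IsPGroup.of_card (n := 1) (by
      rw [Nat.card_congr (Subgroup.subgroupOfEquivOfLe hZP).toEquiv, Nat.card_zpowers, hz, pow_one])
  let Q : Sylow 2 P := hp.toSylow (by rw [hidx]; exact hN.not_two_dvd_nat)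
  have hcent : Subgroup.normalizer ((Q : Subgroup P) : Set P) ≤
      Subgroup.centralizer ((Q : Subgroup P) : Set P) := by
    intro x _
    refine Subgroup.mem_centralizer_iff.2 fun q hq => Subtype.ext ?_
    obtain ⟨i, hi⟩ := Subgroup.mem_zpowers_iff.1 (Subgroup.mem_subgroupOf.1 hq)
    show (q : G) * x = x * q
    rw [← hi]
    exact (((show Commute (x : G) z from Subgroup.mem_center_iff.1 hzc x).zpow_right i).symm).eq
  obtain ⟨K, hKn, hcompl⟩ : ∃ K : Subgroup P, K.Normal ∧ K.IsComplement' (Q : Subgroup P) :=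
    ⟨_, MonoidHom.normal_ker _, MonoidHom.ker_transferSylow_isComplement' Q hcent⟩
  haveI := hKn
  have hKcard : Odd (Nat.card K) := by
    rw [← hcompl.index_eq_card]
    exact Nat.not_even_iff_odd.1 fun h => Q.not_dvd_index (even_iff_two_dvd.1 h)
  have hKidx : K.index = 2 := by
    rw [hcompl.symm.index_eq_card]
    show Nat.card ((Subgroup.zpowers z).subgroupOf P) = 2
    rw [Nat.card_congr (Subgroup.subgroupOfEquivOfLe hZP).toEquiv, Nat.card_zpowers, hz]
  have hchar : ∀ x : P, x ∈ K ↔ Odd (orderOf x) := fun x => by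
    refine ⟨fun h => hKcard.of_dvd_nat (Subgroup.orderOf_dvd_natCard K h), fun h => ?_⟩
    obtain ⟨j, hj⟩ := h
    have h2 : x ^ 2 ∈ K := by
      have := Subgroup.sq_mem_of_index_two hKidx x
      exact this
    have e : x = (x ^ 2) ^ (j + 1) := by
      rw [← pow_mul, show 2 * (j + 1) = orderOf x + 1 by omega, pow_succ, pow_orderOf_eq_one,
        one_mul]
    rw [e]
    exact pow_mem h2 _
  have hKbot : K.map P.subtype = ⊥ := by
    refine hO _ ⟨fun x hx g => ?_⟩ (by
      rw [Subgroup.card_map_of_injective P.subtype_injective]; exact hKcard)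
    obtain ⟨k, hk, rfl⟩ := hx
    refine ⟨⟨g * k * g⁻¹, hPn.conj_mem k k.2 g⟩, (hchar _).2 ?_, rfl⟩
    rw [Subgroup.orderOf_mk, Small.orderOf_conj_eq, Subgroup.orderOf_coe]
    exact (hchar k).1 hk
  have hK1 : K = ⊥ := (Subgroup.map_eq_bot_iff_of_injective K P.subtype_injective).1 hKbot
  rw [hK1, Subgroup.index_bot, hP, Solvable.card_comap_mk', Nat.card_zpowers, hz] at hKidx
  exact Subgroup.card_eq_one.1 (by omega)

/-- `G = N(H) O(G)`, elementwise. -/
theorem exists_cover (n : ℕ) : ∀ (G : Type u) [Group G] [Finite G], Nat.card G = n →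
    ∀ H : Subgroup G, IsPGroup 2 H → IsMulCommutative H → IsExtremelyClosed H →
      ∀ g : G, ∃ m ∈ Subgroup.normalizer (H : Set G), m⁻¹ * g ∈ Cfsg.oddCore G := by
  induction n using Nat.strong_induction_on with
  | _ n ih =>
    intro G _ _ hn H hH2 hHab hcl g
    by_contra hg
    have hnn : ∀ x : G, x ∈ Subgroup.normalizer (H : Set G) → x ≠ g := fun x hx e =>
      hg ⟨x, hx, by rw [← e, inv_mul_cancel]; exact one_mem _⟩
    have hsur : ∀ N : Subgroup G, [N.Normal] → N ≠ ⊥ →
        IsExtremelyClosed (H.map (QuotientGroup.mk' N)) → ∀ y : G,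
        ∃ m ∈ Subgroup.normalizer
          ((H.map (QuotientGroup.mk' N) : Subgroup (G ⧸ N)) : Set (G ⧸ N)),
            m⁻¹ * QuotientGroup.mk' N y ∈ Cfsg.oddCore (G ⧸ N) := by
      intro N _ hN hcl' y
      refine ih (Nat.card (G ⧸ N)) ?_ (G ⧸ N) rfl _ (hH2.map _) ?_ hcl' _
      · rw [← hn, Subgroup.card_eq_card_quotient_mul_card_subgroup N]
        exact lt_mul_of_one_lt_right Nat.card_pos ((Subgroup.one_lt_card_iff_ne_bot N).2 hN)
      · exact ⟨⟨fun a b => by
          obtain ⟨a, ha, hae⟩ := a.2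
          obtain ⟨b, hb, hbe⟩ := b.2
          apply Subtype.ext
          simp only [Subgroup.coe_mul, ← hae, ← hbe, ← map_mul]
          exact congrArg _ (commute_of_mem' hHab ha hb)⟩⟩
    -- trivial odd core
    by_cases hO : Cfsg.oddCore G = ⊥
    swap
    · obtain ⟨m, hm, hmo⟩ := hsur _ hO
        (isExtremelyClosed_map_odd hH2 hHab hcl (odd_card_oddCore' G)) g
      rw [show Cfsg.oddCore (G ⧸ Cfsg.oddCore G) = ⊥ from
        PLocal.pPrimeCore_quotient_pPrimeCore_eq_bot 2 G, Subgroup.mem_bot, inv_mul_eq_one] at hmo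
      rw [hmo] at hm
      exact hg (exists_normalizer_mul hH2 (odd_card_oddCore' G) fun h hh =>
        conj_mem_sup_of_mk_mem_normalizer hm hh)
    have hO' : ∀ N : Subgroup G, N.Normal → Odd (Nat.card N) → N = ⊥ := fun N h1 h2 =>
      eq_bot_iff.2 (hO ▸ le_oddCore_of_odd h1 h2)
    have hHne : H ≠ ⊥ := fun h => hnn g (by
      subst h
      refine Subgroup.mem_normalizer_iff.2 fun x => ?_
      simp) rfl
    -- no central involutions in `H`
    have hnc : ∀ t ∈ H, t * t = 1 → t ≠ 1 → t ∉ Subgroup.center G := by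
      intro t ht htt ht1 htc
      haveI : (Subgroup.zpowers t).Normal := ⟨fun x hx y => by
        obtain ⟨i, rfl⟩ := Subgroup.mem_zpowers_iff.1 hx
        rw [((show Commute y t from Subgroup.mem_center_iff.1 htc y).zpow_right i).eq,
          mul_inv_cancel_right]
        exact hx⟩
      have hto : orderOf t = 2 := orderOf_eq_prime (by rw [pow_two]; exact htt) ht1
      have hZH : Subgroup.zpowers t ≤ H := Subgroup.zpowers_le.2 ht
      obtain ⟨m, hm, hmo⟩ := hsur _ (Subgroup.zpowers_ne_bot.2 ht1)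
        (isExtremelyClosed_map_le hcl hZH) g
      rw [eq_bot_of_quotient_center hto htc hO' (Cfsg.oddCore (G ⧸ Subgroup.zpowers t))
        (odd_card_oddCore' _), Subgroup.mem_bot, inv_mul_eq_one] at hmo
      rw [hmo] at hm
      refine hnn g (Subgroup.mem_normalizer_iff.2 fun h => ?_) rfl
      have hmem : ∀ {v : G}, QuotientGroup.mk' (Subgroup.zpowers t) v ∈
          H.map (QuotientGroup.mk' (Subgroup.zpowers t)) ↔ v ∈ H :=
        fun {v} => by rw [mk_mem_map_iff, sup_eq_left.2 hZH]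
      rw [← hmem (v := h), ← hmem (v := g * h * g⁻¹), map_mul, map_mul, map_inv]
      exact Subgroup.mem_normalizer_iff.1 hm _
    have hsub : ∀ L : Subgroup G, L ≠ ⊤ → H ≤ L → ∀ y : L,
        ∃ m ∈ Subgroup.normalizer ((H.subgroupOf L : Subgroup L) : Set L),
          m⁻¹ * y ∈ Cfsg.oddCore L := by
      intro L hL hHL y
      refine ih (Nat.card L) ?_ L rfl _
        (hH2.of_equiv (Subgroup.subgroupOfEquivOfLe hHL).symm) ?_ (subgroupOf hcl hHL) y
      · rw [← hn]
        exact lt_of_le_of_ne (Nat.le_of_dvd Nat.card_pos (Subgroup.card_subgroup_dvd_card L))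
          fun e => hL (Subgroup.eq_top_of_card_eq L e)
      · exact ⟨⟨fun a b => Subtype.ext (Subtype.ext (commute_of_mem' hHab a.2 b.2))⟩⟩
    have hnorm : ∀ L : Subgroup G, H ≤ L → ∀ m : L,
        m ∈ Subgroup.normalizer ((H.subgroupOf L : Subgroup L) : Set L) →
          (m : G) ∈ Subgroup.normalizer (H : Set G) := by
      intro L hHL m hm
      refine Subgroup.mem_normalizer_iff.2 fun h => ⟨fun hh => ?_, fun hh => ?_⟩
      · exact (Subgroup.mem_normalizer_iff.1 hm ⟨h, hHL hh⟩).1 hh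
      · have h1 : h ∈ L := by
          have := mul_mem (mul_mem (inv_mem m.2) (hHL hh)) m.2
          simpa [mul_assoc] using this
        exact (Subgroup.mem_normalizer_iff.1 hm ⟨h, h1⟩).2 hh
    -- `G` is generated by the conjugates of `H`
    have hgen : Subgroup.normalClosure (H : Set G) = ⊤ := by
      by_contra hL
      obtain ⟨L, hLdef⟩ : ∃ L, L = Subgroup.normalClosure (H : Set G) := ⟨_, rfl⟩
      rw [← hLdef] at hL
      haveI : L.Normal := hLdef ▸ Subgroup.normalClosure_normal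
      have hHL : H ≤ L := hLdef ▸ Subgroup.le_normalClosure
      haveI : (Cfsg.oddCore L).Characteristic := PLocal.pPrimeCoreCharacteristic 2 L
      have hb : (Cfsg.oddCore L).map L.subtype = ⊥ := hO' _ inferInstance (by
        rw [Subgroup.card_map_of_injective L.subtype_injective]; exact odd_card_oddCore' L)
      rw [Subgroup.map_eq_bot_iff_of_injective _ L.subtype_injective] at hb
      have hLN : ∀ y ∈ L, y ∈ Subgroup.normalizer (H : Set G) := fun y hy => by
        obtain ⟨m, hm, hmo⟩ := hsub L hL hHL ⟨y, hy⟩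
        rw [hb, Subgroup.mem_bot, inv_mul_eq_one] at hmo
        have h1 := hnorm L hHL m hm
        rw [hmo] at h1
        exact h1
      have hall : ∀ x : G, ∀ h ∈ H, x * h * x⁻¹ ∈ H := fun x h hh =>
        conj_mem hcl hh (hLN _ ((inferInstance : L.Normal).conj_mem h (hHL hh) x))
      refine hnn g (Subgroup.mem_normalizer_iff.2 fun h => ⟨hall g h, fun hh => ?_⟩) rfl
      have := hall g⁻¹ _ hh
      simpa [mul_assoc] using this
    -- the setting
    haveI := Fintype.ofFinite G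
    refine false_of_setting (H := H) ⟨hH2, hHab, hcl, hO', hgen, hnc, fun t ht htt ht1 => ?_⟩ hHne
    have hCtop : Subgroup.centralizer ({t} : Set G) ≠ ⊤ := fun h => hnc t ht htt ht1
      (Subgroup.mem_center_iff.2 fun y =>
        Subgroup.mem_centralizer_singleton_iff.1 (h ▸ Subgroup.mem_top y))
    have hHC := le_centralizer_of_mem hHab ht
    refine ⟨(Cfsg.oddCore (Subgroup.centralizer ({t} : Set G))).map
      (Subgroup.centralizer ({t} : Set G)).subtype, Subgroup.map_subtype_le _, fun y hy => ?_,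
      by rw [Subgroup.card_map_of_injective (Subgroup.subtype_injective _)]
         exact odd_card_oddCore' _, fun y hy => ?_⟩
    · refine Subgroup.mem_normalizer_iff.2 fun x => ⟨?_, fun hx => ?_⟩
      · rintro ⟨x, hx, rfl⟩
        exact ⟨⟨y, hy⟩ * x * ⟨y, hy⟩⁻¹,
          (inferInstance : (Cfsg.oddCore _).Normal).conj_mem x hx _, rfl⟩
      · obtain ⟨w, hw, hwe⟩ := hx
        refine ⟨⟨y, hy⟩⁻¹ * w * (⟨y, hy⟩ : Subgroup.centralizer ({t} : Set G))⁻¹⁻¹,
          (inferInstance : (Cfsg.oddCore _).Normal).conj_mem w hw _, ?_⟩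
        have hwe' : (w : G) = y * x * y⁻¹ := hwe
        show y⁻¹ * (w : G) * y⁻¹⁻¹ = x
        rw [hwe']; group
    · obtain ⟨m, hm, hmo⟩ := hsub _ hCtop hHC ⟨y, hy⟩
      exact ⟨m, hnorm _ hHC m hm, ⟨_, hmo, rfl⟩⟩
where
  /-- Elements of a commutative subgroup commute. -/
  commute_of_mem' {G : Type u} [Group G] {H : Subgroup G} (hab : IsMulCommutative H) {a b : G}
      (ha : a ∈ H) (hb : b ∈ H) : a * b = b * a :=
    congrArg Subtype.val (hab.is_comm.comm (⟨a, ha⟩ : H) ⟨b, hb⟩)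

end CfsgLib.ExtremelyClosed
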