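import Cfsg.Prelude.Def_SubgroupEmbedding
import Cfsg.Agent.Coprime.Action
import Cfsg.Agent.Coprime.Generation
import Cfsg.Agent.LocalEven50.Basic
import Mathlib.GroupTheory.Transfer

/-!
# Extremely closed abelian 2-subgroups: elementary properties

For an abelian extremely closed 2-subgroup `H` and any `g`, the subgroup `⟨H, gHg⁻¹⟩` has the
Sylow 2-subgroup `H` and a normal 2-complement meeting `N(H)` trivially.
-/

set_option autoImplicit false

namespace CfsgLib.ExtremelyClosed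

open Cfsg
open scoped commutatorElement Pointwise

variable {G : Type*} [Group G]

theorem mem_map_conj {H : Subgroup G} {g x : G} :
    x ∈ H.map (MulAut.conj g).toMonoidHom ↔ g⁻¹ * x * g ∈ H := by
  simp [Subgroup.mem_map]
  constructor
  · rintro ⟨h, hh, rfl⟩; simpa [mul_assoc] using hh
  · intro h; exact ⟨g⁻¹ * x * g, h, by group⟩

/-- An element of `H` conjugated into the normaliser of `H` stays in `H`. -/
theorem conj_mem {H : Subgroup G} (hcl : IsExtremelyClosed H) {g h : G} (hh : h ∈ H)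
    (hN : g * h * g⁻¹ ∈ Subgroup.normalizer (H : Set G)) : g * h * g⁻¹ ∈ H := by
  have h1 : g * h * g⁻¹ ∈ (H ⊔ H.map (MulAut.conj g).toMonoidHom) ⊓
      Subgroup.normalizer (H : Set G) :=
    ⟨Subgroup.mem_sup_right ⟨h, hh, rfl⟩, hN⟩
  rwa [hcl g] at h1

/-- `R` is a kernel subgroup for `H`: it has odd order, is normalised by `H` and meets `N(H)`
trivially. -/
structure IsKer (H R : Subgroup G) : Prop where
  odd : Odd (Nat.card R)
  le_normalizer : H ≤ Subgroup.normalizer (R : Set G)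
  inf_eq : R ⊓ Subgroup.normalizer (H : Set G) = ⊥

variable [Finite G]

/-- The normal 2-complement of `⟨H, gHg⁻¹⟩`. -/
theorem exists_kernel {H : Subgroup G} (hH2 : IsPGroup 2 H) (hHab : IsMulCommutative H)
    (hcl : IsExtremelyClosed H) (g : G) :
    ∃ R : Subgroup G, IsKer H R ∧
      R ≤ H ⊔ H.map (MulAut.conj g).toMonoidHom ∧
      H ⊔ H.map (MulAut.conj g).toMonoidHom ≤ R ⊔ H ∧
      ∃ κ ∈ R, κ⁻¹ * g ∈ Subgroup.normalizer (H : Set G) := by
  haveI : Fact (Nat.Prime 2) := ⟨Nat.prime_two⟩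
  set H' := H.map (MulAut.conj g).toMonoidHom with hH'
  set X := H ⊔ H' with hX
  set H₀ := H.subgroupOf X with hH₀
  have hH₀p : IsPGroup 2 H₀ := hH2.of_equiv (Subgroup.subgroupOfEquivOfLe le_sup_left).symm
  obtain ⟨Q, hQ⟩ := hH₀p.exists_le_sylow
  -- `H` is self-normalising in `X`
  have hself : ∀ x : X, x ∈ Subgroup.normalizer (H₀ : Set X) → x ∈ H₀ := by
    intro x hx
    have h1 : (x : G) ∈ Subgroup.normalizer (H : Set G) := by
      refine Subgroup.mem_normalizer_iff.2 fun h => ⟨fun hh => ?_, fun hh => ?_⟩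
      · exact (Subgroup.mem_normalizer_iff.1 hx ⟨h, Subgroup.mem_sup_left hh⟩).1 hh
      · have hm : h ∈ X := by
          have := X.mul_mem (X.mul_mem (X.inv_mem x.2) (Subgroup.mem_sup_left (T := H') hh)) x.2
          simpa [mul_assoc] using this
        exact (Subgroup.mem_normalizer_iff.1 hx ⟨h, hm⟩).2 hh
    have h2 : (x : G) ∈ X ⊓ Subgroup.normalizer (H : Set G) := ⟨x.2, h1⟩
    rw [hcl g] at h2
    exact h2
  have hQeq : (Q : Subgroup X) = H₀ := by
    by_contra hne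
    obtain ⟨x, hxQ, hxn, hxH⟩ := LocalEven50.exists_mem_normalizer_not_mem Q.isPGroup'
      hQ (Ne.symm hne)
    exact hxH (hself x hxn)
  have hcent : Subgroup.normalizer ((Q : Subgroup X) : Set X) ≤
      Subgroup.centralizer ((Q : Subgroup X) : Set X) := by
    intro x hx
    have hx0 : x ∈ H₀ := hself x (hQeq ▸ hx)
    rw [hQeq]
    refine Subgroup.mem_centralizer_iff.2 fun y hy => Subtype.ext ?_
    have h := congrArg Subtype.val (hHab.is_comm.comm (⟨(y : G), hy⟩ : H) ⟨(x : G), hx0⟩)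
    simpa using h
  obtain ⟨R₀, hR₀n, hcompl⟩ : ∃ R₀ : Subgroup X, R₀.Normal ∧
      R₀.IsComplement' (Q : Subgroup X) :=
    ⟨_, MonoidHom.normal_ker _, MonoidHom.ker_transferSylow_isComplement' Q hcent⟩
  have hR₀odd : Odd (Nat.card R₀) := by
    rw [← hcompl.index_eq_card]
    exact Nat.not_even_iff_odd.1 fun h => Q.not_dvd_index (even_iff_two_dvd.1 h)
  set R := R₀.map X.subtype with hR
  have hRX : R ≤ X := Subgroup.map_subtype_le R₀
  have hRodd : Odd (Nat.card R) := by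
    rw [hR, Subgroup.card_map_of_injective X.subtype_injective]; exact hR₀odd
  have hRnorm : H ≤ Subgroup.normalizer (R : Set G) := by
    intro h hh
    have hhX : h ∈ X := Subgroup.mem_sup_left hh
    refine Subgroup.mem_normalizer_iff.2 fun y => ⟨?_, ?_⟩
    · rintro ⟨y, hy, rfl⟩
      exact ⟨⟨h, hhX⟩ * y * ⟨h, hhX⟩⁻¹,
        hR₀n.conj_mem y hy _, rfl⟩
    · rintro ⟨z, hz, hze⟩
      refine ⟨⟨h, hhX⟩⁻¹ * z * ⟨h, hhX⟩, by
        have h1 := hR₀n.conj_mem z hz (⟨h, hhX⟩ : X)⁻¹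
        rwa [inv_inv] at h1, ?_⟩
      have hze' : (z : G) = h * y * h⁻¹ := hze
      show h⁻¹ * (z : G) * h = y
      rw [hze']; group
  have hRinf : R ⊓ Subgroup.normalizer (H : Set G) = ⊥ := by
    refine eq_bot_iff.2 fun y hy => ?_
    have h1 : y ∈ H := by
      have : y ∈ X ⊓ Subgroup.normalizer (H : Set G) := ⟨hRX hy.1, hy.2⟩
      rwa [hcl g] at this
    obtain ⟨z, hz, rfl⟩ := hy.1
    have : z ∈ R₀ ⊓ (Q : Subgroup X) := ⟨hz, hQeq ▸ h1⟩
    rw [hcompl.isCompl.inf_eq_bot, Subgroup.mem_bot] at this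
    simp [this]
  have hXle : X ≤ R ⊔ H := by
    intro x hx
    have h1 : (⟨x, hx⟩ : X) ∈ R₀ ⊔ (Q : Subgroup X) := hcompl.isCompl.sup_eq_top ▸ Subgroup.mem_top _
    rw [hQeq, Subgroup.mem_sup_of_normal_left] at h1
    obtain ⟨a, ha, b, hb, hab⟩ := h1
    have : x = (a : G) * b := (congrArg Subtype.val hab).symm
    rw [this]
    exact Subgroup.mul_mem_sup ⟨a, ha, rfl⟩ hb
  refine ⟨R, ⟨hRodd, hRnorm, hRinf⟩, hRX, hXle, ?_⟩
  -- the conjugate is a Sylow subgroup too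
  set H₁ := H'.subgroupOf X with hH₁
  have hcard : Nat.card H₁ = Nat.card H₀ := by
    rw [Nat.card_congr (Subgroup.subgroupOfEquivOfLe le_sup_right).toEquiv,
      Nat.card_congr (Subgroup.subgroupOfEquivOfLe le_sup_left).toEquiv, hH',
      Subgroup.card_map_of_injective (MulAut.conj g).injective]
  have hH₁p : IsPGroup 2 H₁ := by
    obtain ⟨n, hn⟩ := IsPGroup.iff_card.1 hH₀p
    exact IsPGroup.of_card (n := n) (hcard ▸ hn)
  obtain ⟨Q', hQ'⟩ := hH₁p.exists_le_sylow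
  have hQ'eq : H₁ = (Q' : Subgroup X) := Subgroup.eq_of_le_of_card_ge hQ'
    (by rw [hcard, ← hQeq, Q.card_eq_multiplicity, Q'.card_eq_multiplicity])
  obtain ⟨x, hx⟩ := MulAction.exists_smul_eq X Q Q'
  obtain ⟨a, ha, b, hb, hab⟩ := Coprime.exists_mul_of_mem_sup hRnorm (hXle x.2)
  refine ⟨a, ha, ?_⟩
  have hbN : b ∈ Subgroup.normalizer (H : Set G) := Subgroup.le_normalizer hb
  suffices hn : (x : G)⁻¹ * g ∈ Subgroup.normalizer (H : Set G) by
    have := mul_mem hbN hn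
    rwa [← mul_assoc, ← hab, mul_inv_rev, mul_inv_cancel_left] at this
  have hmem : ∀ h ∈ H, ∃ h' ∈ H, (x : G) * h * (x : G)⁻¹ = g * h' * g⁻¹ := by
    intro h hh
    have h1 : x * ⟨h, Subgroup.mem_sup_left hh⟩ * x⁻¹ ∈ H₁ := by
      rw [hQ'eq, ← hx, Sylow.coe_subgroup_smul, hQeq]
      refine Subgroup.mem_pointwise_smul_iff_inv_smul_mem.2 ?_
      simpa [mul_assoc, hH₀, Subgroup.mem_subgroupOf] using hh
    obtain ⟨h', hh', he⟩ := h1
    exact ⟨h', hh', he.symm⟩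
  refine inv_inv ((x : G)⁻¹ * g) ▸ inv_mem (Subgroup.mem_normalizer_iff.2 fun h => ⟨fun hh => ?_, fun hh => ?_⟩)
  · obtain ⟨h', hh', he⟩ := hmem h hh
    have : ((x : G)⁻¹ * g)⁻¹ * h * ((x : G)⁻¹ * g)⁻¹⁻¹ = h' := by
      calc ((x : G)⁻¹ * g)⁻¹ * h * ((x : G)⁻¹ * g)⁻¹⁻¹ = g⁻¹ * ((x : G) * h * (x : G)⁻¹) * g := by
            group
        _ = h' := by rw [he]; group
    rwa [this]
  · have hfin : (H : Set G).Finite := Set.toFinite _
    let f : H → H := fun k => ⟨g⁻¹ * ((x : G) * k * (x : G)⁻¹) * g, by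
      obtain ⟨h', hh', he⟩ := hmem k k.2
      rw [he]; simpa [mul_assoc] using hh'⟩
    have hf : Function.Injective f := fun k l e => Subtype.ext (by
      simpa [f] using congrArg Subtype.val e)
    obtain ⟨k, hk⟩ := (Finite.surjective_of_injective hf) ⟨_, hh⟩
    have hk' := congrArg Subtype.val hk
    simp only [f] at hk'
    have : h = k := by
      calc h = (x : G)⁻¹ * g * ((((x : G)⁻¹ * g)⁻¹) * h * (((x : G)⁻¹ * g)⁻¹)⁻¹) *
            ((x : G)⁻¹ * g)⁻¹ := by group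
        _ = k := by rw [← hk']; group
    rw [this]; exact k.2

/-- An `H`-invariant kernel subgroup inside a subgroup `C = N_C(H) θ` lies in `θ`. -/
theorem IsKer.le_of_cover {H R θ C : Subgroup G} (hR : IsKer H R) (hH2 : IsPGroup 2 H)
    (hHab : IsMulCommutative H) (hRC : R ≤ C) (hHC : H ≤ C)
    (hθn : C ≤ Subgroup.normalizer (θ : Set G)) (hθ : Odd (Nat.card θ))
    (hcov : ∀ y ∈ C, ∃ n ∈ Subgroup.normalizer (H : Set G), n⁻¹ * y ∈ θ) : R ≤ θ := by
  obtain ⟨e, he⟩ := IsPGroup.iff_card.1 hH2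
  have hcop : (Nat.card H).Coprime (Nat.card (θ ⊓ R : Subgroup G)) := by
    rw [he]
    exact Nat.Coprime.pow_left _ (Nat.coprime_two_left.2
      (hR.odd.of_dvd_nat (Subgroup.card_dvd_of_le inf_le_right)))
  -- `θ R` has odd order
  have hE : Odd (Nat.card (θ ⊔ R : Subgroup G)) := by
    haveI : (θ.subgroupOf (θ ⊔ R)).Normal := Subgroup.normal_subgroupOf_of_le_normalizer
      (sup_le Subgroup.le_normalizer (hRC.trans hθn))
    have h := LocalEven50.card_sup_dvd_mul (θ.subgroupOf (θ ⊔ R)) (R.subgroupOf (θ ⊔ R))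
    rw [← Subgroup.subgroupOf_sup le_sup_left le_sup_right, Subgroup.subgroupOf_self,
      Subgroup.card_top, Nat.card_congr (Subgroup.subgroupOfEquivOfLe le_sup_left).toEquiv,
      Nat.card_congr (Subgroup.subgroupOfEquivOfLe le_sup_right).toEquiv] at h
    exact (hθ.mul hR.odd).of_dvd_nat h
  intro y hy
  obtain ⟨n, hn, ho⟩ := hcov y (hRC hy)
  have key : ∀ a ∈ H, y⁻¹ * (a * y * a⁻¹) ∈ θ ⊓ R := by
    intro a ha
    have hnC : n ∈ Subgroup.normalizer (θ : Set G) := by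
      have h1 := mul_mem (hθn (hRC hy)) (inv_mem (Subgroup.le_normalizer ho :
        n⁻¹ * y ∈ Subgroup.normalizer (θ : Set G)))
      simpa [mul_assoc] using h1
    have hu : y⁻¹ * (a * y * a⁻¹) ∈ R := mul_mem (inv_mem hy)
      ((Subgroup.mem_normalizer_iff.1 (hR.le_normalizer ha) y).1 hy)
    refine ⟨?_, hu⟩
    show y⁻¹ * (a * y * a⁻¹) ∈ θ
    set o := n⁻¹ * y with ho'
    set h' := n⁻¹ * a * n * a⁻¹ with hh'
    have hh'H : h' ∈ H := mul_mem ((Subgroup.mem_normalizer_iff''.1 hn a).1 ha) (inv_mem ha)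
    have hoa : a * o * a⁻¹ ∈ θ := (Subgroup.mem_normalizer_iff.1 (hθn (hHC ha)) o).1 ho
    have e1 : y⁻¹ * (a * y * a⁻¹) = o⁻¹ * h' * (a * o * a⁻¹) := by
      rw [ho', hh']; group
    have h'E : h' ∈ θ ⊔ R := by
      have : h' = o * (y⁻¹ * (a * y * a⁻¹)) * (a * o * a⁻¹)⁻¹ := by rw [e1]; group
      rw [this]
      exact mul_mem (mul_mem (Subgroup.mem_sup_left ho) (Subgroup.mem_sup_right hu))
        (inv_mem (Subgroup.mem_sup_left hoa))
    have h1 : h' = 1 := by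
      refine orderOf_eq_one_iff.1 (Nat.eq_one_of_dvd_coprimes (k := orderOf h') ?_
        (Subgroup.orderOf_dvd_natCard _ hh'H) (Subgroup.orderOf_dvd_natCard _ h'E))
      rw [he]; exact Nat.Coprime.pow_left _ (Nat.coprime_two_left.2 hE)
    rw [e1, h1, mul_one]
    exact mul_mem (inv_mem ho) hoa
  obtain ⟨c, hc, hyc⟩ := Coprime.exists_fixed_mem_coset (A := H) (N := θ ⊓ R) (k := y)
    ((le_inf (hHC.trans hθn) hR.le_normalizer).trans Subgroup.inf_normalizer_le_normalizer_inf)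
    hcop (Or.inl (Group.isSolvable_of_comm fun a b => hHab.is_comm.comm a b)) key
  have hcR : c ∈ R := by
    have h1 := mul_mem hy hyc.2
    rwa [mul_inv_cancel_left] at h1
  have hcN : c ∈ Subgroup.normalizer (H : Set G) :=
    Subgroup.centralizer_le_normalizer (H : Set G) hc
  have hc1 : c ∈ R ⊓ Subgroup.normalizer (H : Set G) := ⟨hcR, hcN⟩
  rw [hR.inf_eq, Subgroup.mem_bot] at hc1
  rw [hc1, mul_one] at hyc
  exact (Subgroup.inv_mem_iff θ).1 hyc.1

/-- A conjugate of an element of `H` lying in `H` is a conjugate under `N(H)`. -/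
theorem exists_normalizer_conj {H : Subgroup G} (hH2 : IsPGroup 2 H) (hHab : IsMulCommutative H)
    (hcl : IsExtremelyClosed H) {g t : G} (ht : t ∈ H) (hg : g * t * g⁻¹ ∈ H) :
    ∃ n ∈ Subgroup.normalizer (H : Set G), n * t * n⁻¹ = g * t * g⁻¹ := by
  obtain ⟨R, hR, -, -, κ, hκ, hn⟩ := exists_kernel hH2 hHab hcl g
  refine ⟨κ⁻¹ * g, hn, ?_⟩
  set o := κ⁻¹ * g * t * (κ⁻¹ * g)⁻¹ with ho
  have hoH : o ∈ H := (Subgroup.mem_normalizer_iff.1 hn t).1 ht
  have he : g * t * g⁻¹ * o⁻¹ = κ * (o * κ⁻¹ * o⁻¹) := by rw [ho]; group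
  have h1 : g * t * g⁻¹ * o⁻¹ ∈ R ⊓ Subgroup.normalizer (H : Set G) := by
    refine ⟨?_, Subgroup.le_normalizer (mul_mem hg (inv_mem hoH))⟩
    rw [he]
    exact mul_mem hκ ((Subgroup.mem_normalizer_iff.1 (hR.le_normalizer hoH) _).1 (inv_mem hκ))
  rw [hR.inf_eq, Subgroup.mem_bot, mul_inv_eq_one] at h1
  exact h1.symm

/-- `N(H)` contains a Sylow 2-subgroup of `G` containing `H`. -/
theorem exists_sylow_le {H : Subgroup G} (hH2 : IsPGroup 2 H) (hcl : IsExtremelyClosed H) :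
    ∃ S : Sylow 2 G, H ≤ S ∧ (S : Subgroup G) ≤ Subgroup.normalizer (H : Set G) := by
  haveI : Fact (Nat.Prime 2) := ⟨Nat.prime_two⟩
  set N := Subgroup.normalizer (H : Set G) with hN
  obtain ⟨Q, hQ⟩ := (hH2.of_equiv (Subgroup.subgroupOfEquivOfLe
    (Subgroup.le_normalizer : H ≤ N)).symm).exists_le_sylow
  set T := (Q : Subgroup N).map N.subtype with hT
  have hHT : H ≤ T := fun h hh => ⟨⟨h, Subgroup.le_normalizer hh⟩, hQ hh, rfl⟩
  obtain ⟨S, hS⟩ := (Q.isPGroup'.map N.subtype).exists_le_sylow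
  refine ⟨S, hHT.trans hS, ?_⟩
  suffices h : T = (S : Subgroup G) by
    rw [← h]; exact Subgroup.map_subtype_le _
  by_contra hne
  obtain ⟨x, hxS, hxn, hxT⟩ := LocalEven50.exists_mem_normalizer_not_mem S.isPGroup'
    hS hne
  have hxN : x ∈ N := by
    refine Subgroup.mem_normalizer_iff.2 fun h => ⟨fun hh => ?_, fun hh => ?_⟩
    · exact conj_mem hcl hh (Subgroup.map_subtype_le _
        ((Subgroup.mem_normalizer_iff.1 hxn h).1 (hHT hh)))
    · have h1 : x⁻¹ * (x * h * x⁻¹) * x⁻¹⁻¹ ∈ T :=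
        (Subgroup.mem_normalizer_iff.1 (inv_mem hxn) _).1 (hHT hh)
      have h2 := conj_mem hcl (g := x⁻¹) hh (Subgroup.map_subtype_le _ h1)
      simpa [mul_assoc] using h2
  apply hxT
  -- `Q` is a Sylow subgroup of `N` normalised by the 2-element `x`
  have hle : (Q : Subgroup N) ⊔ Subgroup.zpowers ⟨x, hxN⟩ ≤ (S : Subgroup G).subgroupOf N := by
    refine sup_le (fun q hq => hS ⟨q, hq, rfl⟩) (Subgroup.zpowers_le.2 hxS)
  have hp : IsPGroup 2 ((S : Subgroup G).subgroupOf N) :=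
    S.isPGroup'.comap_subtype
  have := Q.is_maximal' (hp.to_le hle) le_sup_left
  exact ⟨⟨x, hxN⟩, this ▸ Subgroup.mem_sup_right (Subgroup.mem_zpowers _), rfl⟩

/-- Being extremely closed passes to subgroups. -/
theorem subgroupOf {H L : Subgroup G} (hcl : IsExtremelyClosed H) (hHL : H ≤ L) :
    IsExtremelyClosed (H.subgroupOf L) := by
  intro g
  refine le_antisymm ?_ (le_inf le_sup_left Subgroup.le_normalizer)
  rintro x ⟨hx1, hx2⟩
  have h1 : (x : G) ∈ H ⊔ H.map (MulAut.conj (g : G)).toMonoidHom := by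
    suffices H.subgroupOf L ⊔ (H.subgroupOf L).map (MulAut.conj g).toMonoidHom ≤
        (H ⊔ H.map (MulAut.conj (g : G)).toMonoidHom).subgroupOf L from this hx1
    refine sup_le (fun y hy => Subgroup.mem_sup_left hy) ?_
    rintro _ ⟨y, hy, rfl⟩
    exact Subgroup.mem_sup_right ⟨(y : G), hy, rfl⟩
  have h2 : (x : G) ∈ Subgroup.normalizer (H : Set G) := by
    refine Subgroup.mem_normalizer_iff.2 fun h => ⟨fun hh => ?_, fun hh => ?_⟩
    · exact (Subgroup.mem_normalizer_iff.1 hx2 ⟨h, hHL hh⟩).1 hh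
    · have hm : h ∈ L := by
        have := L.mul_mem (L.mul_mem (L.inv_mem x.2) (hHL hh)) x.2
        simpa [mul_assoc] using this
      exact (Subgroup.mem_normalizer_iff.1 hx2 ⟨h, hm⟩).2 hh
  have h3 : (x : G) ∈ (H ⊔ H.map (MulAut.conj (g : G)).toMonoidHom) ⊓
      Subgroup.normalizer (H : Set G) := ⟨h1, h2⟩
  rwa [hcl (g : G)] at h3

end CfsgLib.ExtremelyClosed
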