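import Cfsg.Agent.ExtremelyClosed.Basic
import Cfsg.Agent.ZStar.Core
import Cfsg.Agent.BlocksLocal.PrincipalSection
import Cfsg.Agent.Characters.Linear

/-!
# Extremely closed subgroups: character lemmas

Orthogonality of columns of the principal block in different sections, values at involutions,
and the criterion forcing a character to be linear.
-/

set_option autoImplicit false
set_option linter.unusedSectionVars false

namespace CfsgLib.ExtremelyClosed

open Cfsg CfsgLib.Blocks CfsgLib.PrincipalBlock
open scoped ComplexConjugate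

universe u

variable {G : Type u} [Group G] [Fintype G]

section Orth

variable {M : Ideal AlgInt} [M.IsPrime] {p : ℕ} [Fact p.Prime]

open Classical in
/-- Columns of the principal block at elements of different `p`-sections are orthogonal. -/
theorem sum_principal_mul_conj_eq_zero (hM : Cfsg.IsPModular p M) {x g : G}
    (hx : ∃ k, orderOf x = p ^ k)
    (hne : ∀ z : Subgroup.centralizer ({x} : Set G), ¬ p ∣ orderOf z → ¬ IsConj (x * (z : G)) g) :
    ∑ χ : IrrCharacter G, (if χ ∈ Cfsg.principalBlock M G then
      (χ : G → ℂ) x * conj ((χ : G → ℂ) g) else 0) = 0 := by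
  haveI := Fintype.ofFinite (Subgroup.centralizer ({x} : Set G))
  set b₀ := Cfsg.principalBlock M (Subgroup.centralizer ({x} : Set G))
  have hb : IsBlockUnion M b₀ := isBlockUnion_of_isPBlock isPBlock_principalBlock
  set w : IrrCharacter G → ℂ := fun χ => conj ((χ : G → ℂ) g)
  set a : IrrCharacter (Subgroup.centralizer ({x} : Set G)) → ℂ := fun ξ =>
    ∑ χ : IrrCharacter G, Cfsg.classInner
      (fun d : Subgroup.centralizer ({x} : Set G) => (χ : G → ℂ) (x * (d : G)))
      (ξ : Subgroup.centralizer ({x} : Set G) → ℂ) * w χ with ha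
  have hc1 : ¬ p ∣ orderOf (1 : Subgroup.centralizer ({x} : Set G)) := by
    rw [orderOf_one]; exact (Fact.out : p.Prime).not_dvd_one
  have key := sum_union_eq_zero hM hb a (fun z hz => by
    refine Eq.trans ?_ (Characters.sum_irr_mul_conj_of_not_isConj (hne z hz))
    simp only [ha, Finset.sum_mul]
    rw [Finset.sum_comm]
    refine Finset.sum_congr rfl fun χ _ => ?_
    have := congrFun (Characters.classFunction_expansion
      (Blocks.isClassFunction_translate (χ : G → ℂ)
        (Characters.isClassFunction_of_isIrr χ.2) x)) z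
    rw [Finset.sum_apply] at this
    simp only [Pi.smul_apply, smul_eq_mul] at this
    rw [this, Finset.sum_mul]
    exact Finset.sum_congr rfl fun ξ _ => by ring) hc1
  have hx1 : x * ((1 : Subgroup.centralizer ({x} : Set G)) : G) = x := by simp
  calc _ = ∑ χ : IrrCharacter G, Cfsg.blockPart b₀
        (fun d : Subgroup.centralizer ({x} : Set G) => (χ : G → ℂ) (x * (d : G))) 1 * w χ := by
        refine Finset.sum_congr rfl fun χ _ => ?_
        rw [BlocksLocal.blockPart_principal_translate hM hx χ hc1, hx1]
        split_ifs <;> simp [w]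
    _ = _ := by
      simp only [Cfsg.blockPart, finsum_irr_mem, Finset.sum_mul]
      rw [Finset.sum_comm]
      refine Eq.trans (Finset.sum_congr rfl fun ξ _ => ?_) key
      by_cases hξ : ξ ∈ b₀
      · simp only [if_pos hξ, ha, Finset.sum_mul]
        refine Finset.sum_congr rfl fun χ _ => ?_
        rw [show Fintype.ofFinite (Subgroup.centralizer ({x} : Set G)) = (inferInstance :
          Fintype (Subgroup.centralizer ({x} : Set G))) from Subsingleton.elim _ _]
        ring
      · simp [hξ]

open Classical in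
/-- The column norm at a `p`-element is at least the order of a `p`-subgroup of its centraliser. -/
theorem card_le_column_norm (hM : Cfsg.IsPModular p M) {x : G} (hx : ∃ k, orderOf x = p ^ k)
    {H : Subgroup G} (hH : IsPGroup p H) (hHx : H ≤ Subgroup.centralizer ({x} : Set G)) :
    (Nat.card H : ℝ) ≤ ∑ χ : IrrCharacter G, (if χ ∈ Cfsg.principalBlock M G then
      ‖(χ : G → ℂ) x‖ ^ 2 else 0) := by
  set C := Subgroup.centralizer ({x} : Set G)
  haveI := Fintype.ofFinite C
  set H₀ := H.subgroupOf C
  haveI := Fintype.ofFinite H₀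
  have hc1 : ¬ p ∣ orderOf (1 : C) := by
    rw [orderOf_one]; exact (Fact.out : p.Prime).not_dvd_one
  have hsec := BlocksLocal.sum_principal_section_mul_conj hM hx hc1 hc1
  simp only [OneMemClass.coe_one, mul_one] at hsec
  -- the degree part of the principal block of `C`
  set b := Cfsg.principalBlock M C
  have hres : ∀ ξ : IrrCharacter C, ∃ m : ℕ,
      ∑ h : H₀, (ξ : C → ℂ) (h : C) = (Nat.card H₀ : ℂ) * m := by
    intro ξ
    obtain ⟨m, hm⟩ := Characters.classInner_characters
      (Characters.isCharacter_restrict H₀ (Characters.isCharacter_of_isIrr ξ.2))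
      (Characters.isCharacter_one (G := H₀))
    refine ⟨m, ?_⟩
    rw [← hm, Cfsg.classInner, ← mul_assoc, mul_inv_cancel₀ Characters.natCard_ne_zero, one_mul]
    simp
  choose m hm using hres
  choose d hd hd' using fun ξ : IrrCharacter C => Characters.exists_degree_pos ξ.2
  set D : ℕ := ∑ ξ : IrrCharacter C, if ξ ∈ b then d ξ * d ξ else 0 with hD
  have e1 : ∑ h : H₀, ∑ ξ : IrrCharacter C,
      (if ξ ∈ b then (ξ : C → ℂ) 1 * (ξ : C → ℂ) (h : C) else 0) = (D : ℂ) := by
    rw [Finset.sum_eq_single (1 : H₀)]
    · rw [hD, Nat.cast_sum]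
      refine Finset.sum_congr rfl fun ξ _ => ?_
      split_ifs <;> simp [hd']
    · intro h _ hne
      refine BlocksCharsC.sum_degree_mul_eq_zero hM
        (isBlockUnion_of_isPBlock isPBlock_principalBlock) ?_
      have hHp : IsPGroup p H₀ := hH.comap_subtype
      obtain ⟨k, hk⟩ := hHp h
      obtain ⟨j, -, hj⟩ := (Nat.dvd_prime_pow Fact.out).1 (orderOf_dvd_of_pow_eq_one hk)
      have hj' : orderOf ((h : C)) = p ^ j :=
        (orderOf_injective H₀.subtype H₀.subtype_injective h).trans hj
      rw [hj']
      refine dvd_pow_self p fun h0 => hne ?_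
      rw [h0, pow_zero, orderOf_eq_one_iff] at hj
      exact hj
    · simp
  have e2 : (Nat.card H₀) * (∑ ξ : IrrCharacter C, if ξ ∈ b then d ξ * m ξ else 0) = D := by
    have : ((Nat.card H₀ * ∑ ξ : IrrCharacter C, if ξ ∈ b then d ξ * m ξ else 0 : ℕ) : ℂ) = D := by
      rw [← e1, Finset.sum_comm, Nat.cast_mul, Nat.cast_sum, Finset.mul_sum]
      refine Finset.sum_congr rfl fun ξ _ => ?_
      split_ifs with h
      · rw [← Finset.mul_sum, hm, hd']; push_cast; ring
      · simp
    exact_mod_cast this
  have hDpos : 0 < D := by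
    refine Nat.lt_of_lt_of_le ?_ (Finset.single_le_sum (fun ξ _ => Nat.zero_le _)
      (Finset.mem_univ (trivChar C)))
    rw [if_pos trivChar_mem]
    exact Nat.mul_pos (hd _) (hd _)
  have hle : Nat.card H₀ ≤ D := by
    rw [← e2] at hDpos ⊢
    exact Nat.le_mul_of_pos_right _ (Nat.pos_of_mul_pos_left hDpos)
  rw [Nat.card_congr (Subgroup.subgroupOfEquivOfLe hHx).toEquiv] at hle
  calc (Nat.card H : ℝ) ≤ (D : ℝ) := by exact_mod_cast hle
    _ = _ := by
      apply Complex.ofReal_injective
      rw [Complex.ofReal_sum]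
      refine Eq.trans ?_ (Eq.trans hsec.symm (Finset.sum_congr rfl fun χ _ => ?_))
      · rw [hD]
        push_cast
        refine Finset.sum_congr rfl fun ξ _ => ?_
        split_ifs <;> simp [hd']
      · split_ifs
        · rw [Complex.mul_conj, Complex.normSq_eq_norm_sq]
        · simp

end Orth

/-! ### Values at involutions -/

/-- The values of characters at elements squaring to one are rational integers. -/
theorem exists_int_value (χ : IrrCharacter G) {t : G} (ht : t * t = 1) :
    ∃ z : ℤ, (χ : G → ℂ) t = z := by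
  classical
  obtain ⟨d, -, hd⟩ := Characters.exists_degree_pos χ.2
  by_cases h1 : t = 1
  · exact ⟨d, by rw [h1, hd]; norm_cast⟩
  have hto : orderOf t = 2 := orderOf_eq_prime (by rw [pow_two]; exact ht) h1
  haveI := Fintype.ofFinite (Subgroup.zpowers t)
  obtain ⟨m, hm⟩ := Characters.classInner_characters
    (Characters.isCharacter_restrict (Subgroup.zpowers t) (Characters.isCharacter_of_isIrr χ.2))
    (Characters.isCharacter_one (G := Subgroup.zpowers t))
  refine ⟨2 * m - d, ?_⟩
  have hcard : Fintype.card (Subgroup.zpowers t) = 2 := by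
    rw [← Nat.card_eq_fintype_card, Nat.card_zpowers, hto]
  have huniv : (Finset.univ : Finset (Subgroup.zpowers t)) = {1, ⟨t, Subgroup.mem_zpowers t⟩} := by
    refine (Finset.eq_univ_of_card _ ?_).symm
    rw [hcard, Finset.card_pair]
    exact fun h => h1 (congrArg Subtype.val h).symm
  rw [Cfsg.classInner, huniv, Finset.sum_pair (fun h => h1 (congrArg Subtype.val h).symm),
    Nat.card_zpowers, hto] at hm
  simp only [OneMemClass.coe_one, map_one, mul_one, hd] at hm
  push_cast at hm ⊢
  linear_combination 2 * hm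

/-- The dimension of the fixed space of `θ` bounds the value at an element `t` commuting with `θ`
with `χ (t y) = χ t` on `θ`. -/
theorem char_le_finrank_invariants {n : ℕ} (ρ : Representation ℂ G (Fin n → ℂ)) {θ : Subgroup G}
    {t : G} (ht : orderOf t = 2) (hθ : θ ≤ Subgroup.centralizer ({t} : Set G))
    (hval : ∀ y ∈ θ, ρ.character (t * y) = ρ.character t) {z : ℤ} (hz : ρ.character t = z) :
    z ≤ Module.finrank ℂ (Representation.invariants (ρ.comp θ.subtype)) := by
  classical
  haveI := Fintype.ofFinite θ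
  haveI := Fintype.ofFinite (Subgroup.zpowers t)
  let φ : θ × Subgroup.zpowers t →* G := MonoidHom.noncommCoprod θ.subtype
    (Subgroup.zpowers t).subtype (fun y s => by
      obtain ⟨i, hi⟩ := Subgroup.mem_zpowers_iff.1 s.2
      show Commute (y : G) (s : G)
      rw [← hi]
      exact (show Commute (y : G) t from
        Subgroup.mem_centralizer_singleton_iff.1 (hθ y.2)).zpow_right i)
  have htt : t * t = 1 := by rw [← pow_two, ← ht, pow_orderOf_eq_one]
  have ht1 : t ≠ 1 := fun h => by simp [h] at ht
  have hne : (1 : Subgroup.zpowers t) ≠ ⟨t, Subgroup.mem_zpowers t⟩ :=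
    fun h => ht1 (congrArg Subtype.val h).symm
  have hcard : Fintype.card (Subgroup.zpowers t) = 2 := by
    rw [← Nat.card_eq_fintype_card, Nat.card_zpowers, ht]
  have huniv : (Finset.univ : Finset (Subgroup.zpowers t)) = {1, ⟨t, Subgroup.mem_zpowers t⟩} := by
    refine (Finset.eq_univ_of_card _ ?_).symm
    rw [hcard, Finset.card_pair hne]
  letI := invertibleOfNonzero (Characters.natCard_ne_zero (G := θ × Subgroup.zpowers t))
  letI := invertibleOfNonzero (Characters.natCard_ne_zero (G := θ))
  have e1 := Representation.card_inv_mul_sum_char_eq_finrank (ρ.comp φ)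
  have e2 := Representation.card_inv_mul_sum_char_eq_finrank (ρ.comp θ.subtype)
  have esum : ∑ q : θ × Subgroup.zpowers t, Representation.character (ρ.comp φ) q =
      ∑ y : θ, Representation.character (ρ.comp θ.subtype) y + (Nat.card θ : ℂ) * z := by
    rw [Fintype.sum_prod_type]
    have : ∀ y : θ, ∑ s : Subgroup.zpowers t, Representation.character (ρ.comp φ) (y, s) =
        Representation.character (ρ.comp θ.subtype) y + (z : ℂ) := by
      intro y
      rw [huniv, Finset.sum_pair hne]
      have a1 : φ (y, 1) = (y : G) := by simp [φ]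
      have a2 : φ (y, ⟨t, Subgroup.mem_zpowers t⟩) = t * (y : G) := by
        show (y : G) * t = _
        exact Subgroup.mem_centralizer_singleton_iff.1 (hθ y.2)
      simp only [Representation.character, MonoidHom.comp_apply, a1, a2, Subgroup.coe_subtype]
      congr 1
      exact (hval y y.2).trans hz
    rw [Finset.sum_congr rfl fun y _ => this y, Finset.sum_add_distrib, Finset.sum_const,
      Finset.card_univ, nsmul_eq_mul, Nat.card_eq_fintype_card]
  rw [esum, Nat.card_prod, Nat.card_zpowers, ht] at e1
  have hc0 : (Nat.card θ : ℂ) ≠ 0 := Characters.natCard_ne_zero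
  set a := Module.finrank ℂ (Representation.invariants (ρ.comp φ))
  set b := Module.finrank ℂ (Representation.invariants (ρ.comp θ.subtype))
  have hrel : (2 * a : ℂ) = b + z := by
    rw [← e1, ← e2]
    push_cast
    field_simp
  have hab : a ≤ b := by
    refine Submodule.finrank_mono fun v hv y => ?_
    have := hv (y, 1)
    simpa [φ] using this
  have : (2 * a : ℤ) = b + z := by exact_mod_cast hrel
  omega

/-- A character of large value at three involutions of a four-group whose "kernels" generate a
normal subgroup covering `G` modulo the normaliser of `H` is linear. -/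
theorem degree_one_of_large {n : ℕ} (ρ : Representation ℂ G (Fin n → ℂ)) (hρ : ρ.IsIrreducible)
    {H W θa θb θc : Subgroup G} (hHab : IsMulCommutative H) [W.Normal]
    (hW : W ≤ θa ⊔ θb ⊔ θc) (hWN : ∀ g : G, ∃ w ∈ W, w⁻¹ * g ∈ Subgroup.normalizer (H : Set G))
    (hgen : Subgroup.normalClosure (H : Set G) = ⊤)
    (hdim : 2 * n < Module.finrank ℂ (Representation.invariants (ρ.comp θa.subtype)) +
      Module.finrank ℂ (Representation.invariants (ρ.comp θb.subtype)) +
      Module.finrank ℂ (Representation.invariants (ρ.comp θc.subtype))) :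
    ρ.character 1 = 1 := by
  set A := Representation.invariants (ρ.comp θa.subtype)
  set B := Representation.invariants (ρ.comp θb.subtype)
  set C := Representation.invariants (ρ.comp θc.subtype)
  have hn : Module.finrank ℂ (Fin n → ℂ) = n := by simp
  have i1 := Submodule.finrank_sup_add_finrank_inf_eq A B
  have i2 := Submodule.finrank_sup_add_finrank_inf_eq (A ⊓ B) C
  have b1 := Submodule.finrank_le (A ⊔ B)
  have b2 := Submodule.finrank_le (A ⊓ B ⊔ C)
  rw [hn] at b1 b2
  have hpos : A ⊓ B ⊓ C ≠ ⊥ := fun h0 => by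
    rw [h0, finrank_bot] at i2
    omega
  obtain ⟨v, ⟨⟨hva, hvb⟩, hvc⟩, hv0⟩ := Submodule.exists_mem_ne_zero_of_ne_bot hpos
  let K : Subgroup G :=
    { carrier := {g | ρ g v = v}
      one_mem' := by simp
      mul_mem' := fun {a b} ha hb => by
        simp only [Set.mem_ofPred_eq] at ha hb ⊢
        rw [map_mul, Module.End.mul_apply, hb, ha]
      inv_mem' := fun {a} ha => by
        simp only [Set.mem_ofPred_eq] at ha ⊢
        conv_lhs => rw [← ha]
        rw [← Module.End.mul_apply, ← map_mul, inv_mul_cancel, map_one, Module.End.one_apply] }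
  have hWK : W ≤ K := hW.trans (sup_le (sup_le (fun y hy => hva ⟨y, hy⟩)
    (fun y hy => hvb ⟨y, hy⟩)) (fun y hy => hvc ⟨y, hy⟩))
  -- the fixed space of `W` is everything
  let U : Subrepresentation ρ :=
    { toSubmodule := Representation.invariants (ρ.comp W.subtype)
      apply_mem_toSubmodule := fun g u hu w => by
        have h1 := hu ⟨g⁻¹ * w * g, by
          simpa using (inferInstance : W.Normal).conj_mem (w : G) w.2 g⁻¹⟩
        show ρ (w : G) (ρ g u) = ρ g u
        conv_rhs => rw [← h1]
        simp only [MonoidHom.comp_apply, Subgroup.coe_subtype]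
        rw [← Module.End.mul_apply, ← map_mul, ← Module.End.mul_apply, ← map_mul]
        group }
  have hU : U = ⊤ := by
    haveI := hρ
    refine (IsSimpleOrder.eq_bot_or_eq_top U).resolve_left fun h => hv0 ?_
    have hvU : v ∈ U.toSubmodule := fun w => hWK w.2
    rw [h] at hvU
    exact (Submodule.mem_bot ℂ).1 hvU
  have hker : ∀ w ∈ W, ρ w = 1 := fun w hw => LinearMap.ext fun u => by
    have hu : u ∈ U.toSubmodule := by rw [hU]; exact Submodule.mem_top
    exact hu ⟨w, hw⟩
  -- the image of `G` is the image of `H`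
  let S : Subgroup G :=
    { carrier := {g | ∃ h ∈ H, ρ g = ρ h}
      one_mem' := ⟨1, H.one_mem, rfl⟩
      mul_mem' := fun {a b} => by
        rintro ⟨h, hh, ha⟩ ⟨k, hk, hb⟩
        exact ⟨h * k, H.mul_mem hh hk, by rw [map_mul, map_mul, ha, hb]⟩
      inv_mem' := fun {a} => by
        rintro ⟨h, hh, ha⟩
        refine ⟨h⁻¹, H.inv_mem hh, ?_⟩
        calc ρ a⁻¹ = ρ a⁻¹ * (ρ h * ρ h⁻¹) := by rw [← map_mul ρ h, mul_inv_cancel, map_one, mul_one]
          _ = ρ h⁻¹ := by rw [← ha, ← mul_assoc, ← map_mul ρ a⁻¹, inv_mul_cancel, map_one, one_mul] }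
  have hS : Subgroup.normalClosure (H : Set G) ≤ S := by
    refine (Subgroup.closure_le _).2 fun y hy => ?_
    obtain ⟨h, hh, hy⟩ := Group.mem_conjugatesOfSet_iff.1 hy
    obtain ⟨g, rfl⟩ := isConj_iff.1 hy
    obtain ⟨w, hw, hnN⟩ := hWN g
    refine ⟨(w⁻¹ * g) * h * (w⁻¹ * g)⁻¹, (Subgroup.mem_normalizer_iff.1 hnN h).1 hh, ?_⟩
    have e : g * h * g⁻¹ = w * ((w⁻¹ * g) * h * (w⁻¹ * g)⁻¹) * w⁻¹ := by group
    rw [e, map_mul, map_mul, hker w hw, hker w⁻¹ (W.inv_mem hw), one_mul, mul_one]
  rw [hgen] at hS
  have hcomm : ∀ g g' : G, ρ g * ρ g' = ρ g' * ρ g := fun g g' => by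
    obtain ⟨h, hh, e⟩ := hS (Subgroup.mem_top g)
    obtain ⟨k, hk, e'⟩ := hS (Subgroup.mem_top g')
    rw [e, e', ← map_mul, ← map_mul]
    exact congrArg ρ (congrArg Subtype.val (hHab.is_comm.comm (⟨h, hh⟩ : H) ⟨k, hk⟩))
  -- so every line is invariant
  haveI := hρ
  have hline : ∀ g : G, ∃ c : ℂ, ρ g = c • LinearMap.id := fun g =>
    Characters.schur_scalar ρ _ fun g' u => by
      rw [← Module.End.mul_apply, hcomm, Module.End.mul_apply]
  let L : Subrepresentation ρ :=
    { toSubmodule := Submodule.span ℂ {v}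
      apply_mem_toSubmodule := fun g u hu => by
        obtain ⟨c, hc⟩ := hline g
        rw [hc]
        exact Submodule.smul_mem _ c hu }
  have hL : L = ⊤ := (IsSimpleOrder.eq_bot_or_eq_top L).resolve_left fun h => hv0 (by
    have hvL : v ∈ L.toSubmodule := Submodule.mem_span_singleton_self v
    rw [h] at hvL
    exact (Submodule.mem_bot ℂ).1 hvL)
  have h1 : Module.finrank ℂ (Submodule.span ℂ {v}) = 1 := finrank_span_singleton hv0
  have h2 : Submodule.span ℂ {v} = ⊤ := congrArg Subrepresentation.toSubmodule hL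
  rw [h2, finrank_top] at h1
  rw [Representation.char_one, h1, Nat.cast_one]

open Classical in
/-- The number of linear characters determined by their values on `H`, trivial on `A ⊆ H`. -/
theorem card_linear_mul_card_le {H : Subgroup G} (hgen : Subgroup.normalClosure (H : Set G) = ⊤)
    (A : Finset G) (hA : ∀ a ∈ A, a ∈ H) (L : Finset (IrrCharacter G))
    (hL : ∀ χ ∈ L, (χ : G → ℂ) 1 = 1) (hLA : ∀ χ ∈ L, ∀ a ∈ A, (χ : G → ℂ) a = 1) :
    A.card * L.card ≤ Nat.card H := by
  haveI := Fintype.ofFinite H
  choose f hf using fun χ : L => Characters.exists_hom_of_degree_one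
    (Characters.isCharacter_of_isIrr χ.1.2) (hL χ χ.2)
  let r : L → IrrCharacter H := fun χ =>
    ⟨fun h => (((f χ).comp H.subtype h : ℂˣ) : ℂ), Characters.isIrr_linChar _⟩
  have hr : Function.Injective r := by
    intro χ ψ e
    have hker : Subgroup.normalClosure (H : Set G) ≤ (f χ / f ψ).ker := by
      refine Subgroup.normalClosure_le_normal fun h hh => ?_
      have h1 : ((f χ h : ℂˣ) : ℂ) = (f ψ h : ℂˣ) :=
        congrFun (congrArg Subtype.val e) (⟨h, hh⟩ : H)
      show (f χ / f ψ) h = 1
      rw [MonoidHom.div_apply, Units.ext h1, div_self']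
    apply Subtype.ext; apply Subtype.ext
    rw [hf χ, hf ψ]
    funext g
    have : g ∈ (f χ / f ψ).ker := hker (hgen ▸ Subgroup.mem_top g)
    rw [MonoidHom.mem_ker, MonoidHom.div_apply, div_eq_one] at this
    rw [this]
  let s : H → ℂ := fun h => ∑ χ : L, (r χ : H → ℂ) h
  have hs2 : ∑ h : H, s h * conj (s h) = (L.card : ℂ) * Nat.card H := by
    simp only [s, map_sum, Finset.sum_mul, Finset.mul_sum]
    rw [Finset.sum_comm]
    have : ∀ χ : L, ∑ h : H, ∑ ψ : L, (r ψ : H → ℂ) h * conj ((r χ : H → ℂ) h) =
        (Nat.card H : ℂ) := fun χ => by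
      rw [Finset.sum_comm]
      have horth : ∀ ψ : L, ∑ h : H, (r ψ : H → ℂ) h * conj ((r χ : H → ℂ) h) =
          if ψ = χ then (Nat.card H : ℂ) else 0 := fun ψ => by
        have := Characters.classInner_irr (r ψ) (r χ)
        rw [Cfsg.classInner, inv_mul_eq_iff_eq_mul₀ Characters.natCard_ne_zero] at this
        rw [this]
        by_cases h : ψ = χ
        · rw [if_pos h, if_pos (congrArg r h), mul_one]
        · rw [if_neg h, if_neg fun e => h (hr e), mul_zero]
      rw [Finset.sum_congr rfl fun ψ _ => horth ψ]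
      simp
    rw [Finset.sum_congr rfl fun χ _ => this χ]
    simp [mul_comm]
  have hre : ∑ h : H, ‖s h‖ ^ 2 = (L.card : ℝ) * Nat.card H := by
    apply Complex.ofReal_injective
    push_cast
    rw [← hs2]
    exact Finset.sum_congr rfl fun h _ => by rw [Complex.mul_conj, Complex.normSq_eq_norm_sq]; simp
  set A' : Finset H := A.subtype (· ∈ H) with hA'
  have hcard : A'.card = A.card := by
    rw [hA', Finset.card_subtype, Finset.filter_true_of_mem hA]
  have hone : ∀ a ∈ A', s a = L.card := fun a ha => by
    simp only [s]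
    rw [Finset.sum_congr rfl fun χ _ => (show (r χ : H → ℂ) a = 1 from ?_)]
    · simp
    · have := hLA χ χ.2 a (Finset.mem_subtype.1 ha)
      rwa [hf χ] at this
  have h1 : (A.card : ℝ) * (L.card : ℝ) ^ 2 ≤ (L.card : ℝ) * Nat.card H := by
    rw [← hre, ← hcard]
    refine le_trans ?_ (Finset.sum_le_sum_of_subset_of_nonneg (Finset.subset_univ A')
      fun _ _ _ => sq_nonneg _)
    rw [Finset.sum_congr rfl fun a ha => by rw [hone a ha]]
    simp
  rcases Nat.eq_zero_or_pos L.card with h | h
  · simp [h]
  · have h2 : A.card * L.card ^ 2 ≤ L.card * Nat.card H := by exact_mod_cast h1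
    refine Nat.le_of_mul_le_mul_left ?_ h
    calc L.card * (A.card * L.card) = A.card * L.card ^ 2 := by ring
      _ ≤ _ := h2

end CfsgLib.ExtremelyClosed
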