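import Cfsg.Agent.ExtremelyClosed.Chars
import Cfsg.Agent.ZStar.Theorem
import Cfsg.Agent.Small.Dihedral

/-!
# Extremely closed abelian 2-subgroups: the contradiction in a reduced configuration

`Setting H` records the configuration reached by induction: trivial odd core, `G` generated by the
conjugates of `H`, no central involution in `H`, and `C(t) = (N(H) ∩ C(t)) θ` with `θ` of odd order
for every involution `t` of `H`. `false_of_setting` shows that it is impossible when `H ≠ 1`.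
-/

set_option autoImplicit false
set_option linter.unusedSectionVars false
set_option linter.style.haveILetI false

namespace CfsgLib.ExtremelyClosed

open Cfsg CfsgLib.Blocks CfsgLib.PrincipalBlock
open scoped ComplexConjugate

universe u

variable {G : Type u} [Group G]

/-- The reduced configuration. -/
structure Setting (H : Subgroup G) : Prop where
  two : IsPGroup 2 H
  ab : IsMulCommutative H
  cl : IsExtremelyClosed H
  odd_bot : ∀ N : Subgroup G, N.Normal → Odd (Nat.card N) → N = ⊥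
  gen : Subgroup.normalClosure (H : Set G) = ⊤
  ncent : ∀ t ∈ H, t * t = 1 → t ≠ 1 → t ∉ Subgroup.center G
  cover : ∀ t ∈ H, t * t = 1 → t ≠ 1 → ∃ θ : Subgroup G,
    θ ≤ Subgroup.centralizer ({t} : Set G) ∧
      Subgroup.centralizer ({t} : Set G) ≤ Subgroup.normalizer (θ : Set G) ∧
      Odd (Nat.card θ) ∧
      ∀ y ∈ Subgroup.centralizer ({t} : Set G),
        ∃ n ∈ Subgroup.normalizer (H : Set G), n⁻¹ * y ∈ θ

/-- Normal form of an element `κ z` with `z` an involution acting on the odd group `R ∋ κ`. -/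
theorem exists_conj_of_odd_coset [Finite G] {R : Subgroup G} (hR : Odd (Nat.card R)) {z κ : G}
    (hz : orderOf z = 2) (hzR : z ∈ Subgroup.normalizer (R : Set G)) (hκ : κ ∈ R) :
    ¬ Odd (orderOf (κ * z)) ∧
      ∃ c ∈ R, ∃ y ∈ R, Commute y z ∧ c * (y * z) * c⁻¹ = κ * z := by
  have hzz : z * z = 1 := Small.mul_self_of_orderOf_two hz
  have hzi : z⁻¹ = z := inv_eq_of_mul_eq_one_right hzz
  have hzc : ∀ x ∈ R, z * x * z⁻¹ ∈ R := fun x hx => (Subgroup.mem_normalizer_iff.1 hzR x).1 hx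
  obtain ⟨w, hw⟩ : ∃ w, w = κ * z := ⟨_, rfl⟩
  have hww : w * w ∈ R := by
    have e : w * w = κ * (z * κ * z⁻¹) := by rw [hw, hzi]; group
    rw [e]; exact mul_mem hκ (hzc κ hκ)
  obtain ⟨i, hi⟩ := hR.of_dvd_nat (Subgroup.orderOf_dvd_natCard _ hww)
  obtain ⟨v, hv⟩ : ∃ v, v = w ^ orderOf (w * w) := ⟨_, rfl⟩
  obtain ⟨ρ, hρdef⟩ : ∃ ρ, ρ = (w * w) ^ i * κ := ⟨_, rfl⟩
  have hρ : ρ ∈ R := hρdef ▸ mul_mem (pow_mem hww i) hκ
  have hve : v = ρ * z := by
    rw [hv, hi, pow_succ, pow_mul, pow_two, hρdef, mul_assoc _ κ z, ← hw]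
  have hvv : v * v = 1 := by
    rw [hv, ← (Commute.refl w).mul_pow, pow_orderOf_eq_one]
  have hv1 : v ≠ 1 := fun h => by
    have hzmem : z ∈ R := by
      rw [hve, mul_eq_one_iff_inv_eq] at h
      exact h ▸ inv_mem hρ
    have h2 := hR.of_dvd_nat (Subgroup.orderOf_dvd_natCard _ hzmem)
    rw [hz] at h2
    exact absurd h2 (by decide)
  have hvo : orderOf v = 2 := orderOf_eq_prime (by rw [pow_two, hvv]) hv1
  have hzv : z * v ∈ R := by
    have := hzc ρ hρ
    rw [hzi, mul_assoc, ← hve] at this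
    exact this
  obtain ⟨k, hk⟩ := Small.conj_pow_eq_of_odd hz hvo
    (hR.of_dvd_nat (Subgroup.orderOf_dvd_natCard _ hzv))
  obtain ⟨c, hc⟩ : ∃ c, c = (z * v) ^ k := ⟨_, rfl⟩
  rw [← hc] at hk
  have hcR : c ∈ R := hc ▸ pow_mem hzv k
  refine ⟨fun hodd => ?_, c, hcR, c⁻¹ * κ * (z * c * z⁻¹),
    mul_mem (mul_mem (inv_mem hcR) hκ) (hzc c hcR), ?_, by group⟩
  · have h1 : orderOf v ∣ orderOf w := orderOf_dvd_of_pow_eq_one (by
      rw [hv, ← pow_mul, mul_comm, pow_mul, pow_orderOf_eq_one, one_pow])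
    rw [hvo] at h1
    exact Nat.not_even_iff_odd.2 (hw ▸ hodd) (even_iff_two_dvd.2 h1)
  · have hwv : Commute w v := hv ▸ (Commute.refl w).pow_right _
    have h1 : Commute (c⁻¹ * κ * (z * c * z⁻¹) * z) z := by
      have e1 : c⁻¹ * κ * (z * c * z⁻¹) * z = c⁻¹ * w * c⁻¹⁻¹ := by rw [hw]; group
      have e2 : z = c⁻¹ * v * c⁻¹⁻¹ := by rw [← hk]; group
      rw [e1]
      conv_rhs => rw [e2]
      exact (Commute.map hwv (MulAut.conj c⁻¹).toMonoidHom : _)
    have h2 := h1.mul_left (Commute.refl z).inv_left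
    rwa [mul_inv_cancel_right] at h2

section Defs

variable [Fintype G]

open Classical in
/-- The elements of `H` squaring to `1`. -/
noncomputable def invols (H : Subgroup G) : Finset G :=
  Finset.univ.filter fun a => a ∈ H ∧ a * a = 1

/-- The integer value of a character at an element squaring to `1`. -/
noncomputable def ival (χ : IrrCharacter G) (g : G) : ℤ :=
  Classical.epsilon fun z : ℤ => (χ : G → ℂ) g = z

theorem ival_spec (χ : IrrCharacter G) {g : G} (hg : g * g = 1) :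
    (χ : G → ℂ) g = (ival χ g : ℂ) :=
  Classical.epsilon_spec (p := fun z : ℤ => (χ : G → ℂ) g = z) (exists_int_value χ hg)

theorem ival_one_pos (χ : IrrCharacter G) : 0 < ival χ 1 := by
  obtain ⟨d, hd, he⟩ := Characters.exists_degree_pos χ.2
  rw [ival_spec χ (one_mul 1)] at he
  have : ival χ 1 = (d : ℤ) := by exact_mod_cast he
  omega

theorem ival_trivChar {g : G} (hg : g * g = 1) : ival (trivChar G) g = 1 := by
  have h := ival_spec (trivChar G) hg
  have h1 : ((trivChar G : IrrCharacter G) : G → ℂ) g = 1 := by simp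
  rw [h1] at h
  exact_mod_cast h.symm

theorem ival_conj (χ : IrrCharacter G) {g : G} (hg : g * g = 1) (n : G) :
    ival χ (n * g * n⁻¹) = ival χ g := by
  have h' : n * g * n⁻¹ * (n * g * n⁻¹) = 1 := by
    rw [conj_mul, hg, mul_one, mul_inv_cancel]
  have h1 := ival_spec χ h'
  rw [Characters.isClassFunction_of_isIrr χ.2 g n, ival_spec χ hg] at h1
  exact_mod_cast h1.symm

variable {H : Subgroup G}

theorem mem_invols {a : G} : a ∈ invols H ↔ a ∈ H ∧ a * a = 1 := by
  simp [invols]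

theorem one_mem_invols : (1 : G) ∈ invols H := mem_invols.2 ⟨H.one_mem, mul_one 1⟩

theorem commute_of_mem (hab : IsMulCommutative H) {a b : G} (ha : a ∈ H) (hb : b ∈ H) :
    Commute a b :=
  congrArg Subtype.val (hab.is_comm.comm (⟨a, ha⟩ : H) ⟨b, hb⟩)

theorem mul_mem_invols (hab : IsMulCommutative H) {a b : G} (ha : a ∈ invols H)
    (hb : b ∈ invols H) : a * b ∈ invols H := by
  rw [mem_invols] at *
  refine ⟨H.mul_mem ha.1 hb.1, ?_⟩
  rw [(commute_of_mem hab ha.1 hb.1).symm.mul_mul_mul_comm, ha.2, hb.2, mul_one]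

theorem inv_eq_of_mem_invols {a : G} (ha : a ∈ invols H) : a⁻¹ = a :=
  inv_eq_of_mul_eq_one_right (mem_invols.1 ha).2

theorem orderOf_of_mem_invols {a : G} (ha : a ∈ invols H) (ha1 : a ≠ 1) : orderOf a = 2 :=
  orderOf_eq_prime (by rw [pow_two]; exact (mem_invols.1 ha).2) ha1

theorem mul_ne_one_of_ne {a b : G} (ha : a ∈ invols H) (hne : a ≠ b) : a * b ≠ 1 := fun h =>
  hne (by rw [← inv_eq_of_mem_invols ha, inv_eq_of_mul_eq_one_right h])

theorem conj_mem_invols {a n : G} (hn : n ∈ Subgroup.normalizer (H : Set G))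
    (ha : a ∈ invols H) : n * a * n⁻¹ ∈ invols H := by
  rw [mem_invols] at *
  exact ⟨(Subgroup.mem_normalizer_iff.1 hn a).1 ha.1,
    by rw [conj_mul, ha.2, mul_one, mul_inv_cancel]⟩

theorem le_centralizer_of_mem (hab : IsMulCommutative H) {z : G} (hz : z ∈ H) :
    H ≤ Subgroup.centralizer ({z} : Set G) := fun _ hh =>
  Subgroup.mem_centralizer_singleton_iff.2 (commute_of_mem hab hh hz).eq

/-- Every involution of `H` has another conjugate in `H`. -/
theorem exists_conj_ne (hs : Setting H) {t : G} (ht : t ∈ invols H) (ht1 : t ≠ 1) :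
    ∃ n ∈ Subgroup.normalizer (H : Set G), n * t * n⁻¹ ≠ t := by
  by_contra hall
  push Not at hall
  obtain ⟨S, hHS, hSN⟩ := exists_sylow_le hs.two hs.cl
  have htH := (mem_invols.1 ht).1
  obtain ⟨N, hN, hodd, hc⟩ := ZStar.exists_oddNormal_of_sylow S (orderOf_of_mem_invols ht ht1)
    (hHS htH) (fun g hg => by
      obtain ⟨n, hn, he⟩ := exists_normalizer_conj hs.two hs.ab hs.cl htH
        (conj_mem hs.cl htH (hSN hg))
      rw [← he, hall n hn])
  rw [hs.odd_bot N hN hodd] at hc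
  refine hs.ncent t htH (mem_invols.1 ht).2 ht1 (Subgroup.mem_center_iff.2 fun g => ?_)
  have h := Subgroup.mem_bot.1 (hc g)
  rw [mul_inv_eq_one, mul_inv_eq_iff_eq_mul] at h
  exact h.symm

end Defs

section Main

variable [Fintype G] {M : Ideal AlgInt} [M.IsPrime] {H : Subgroup G}

/-- Kernel subgroups meet `C(z)` in `θ`, and principal characters ignore `θ` on the section of
`z`. -/
theorem exists_theta (hM : Cfsg.IsPModular 2 M) (hs : Setting H) {z : G} (hz : z ∈ invols H)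
    (hz1 : z ≠ 1) :
    ∃ θ : Subgroup G, θ ≤ Subgroup.centralizer ({z} : Set G) ∧
      (∀ R, IsKer H R → R ⊓ Subgroup.centralizer ({z} : Set G) ≤ θ) ∧
      ∀ χ ∈ Cfsg.principalBlock M G, ∀ y ∈ θ,
        ((χ : IrrCharacter G) : G → ℂ) (z * y) = (χ : G → ℂ) z := by
  haveI : Fact (Nat.Prime 2) := ⟨Nat.prime_two⟩
  obtain ⟨hzH, hzz⟩ := mem_invols.1 hz
  obtain ⟨θ, hθC, hθn, hθ, hcov⟩ := hs.cover z hzH hzz hz1
  refine ⟨θ, hθC, fun R hR => ?_, fun χ hχ y hy => ?_⟩
  · have hR' : IsKer H (R ⊓ Subgroup.centralizer ({z} : Set G)) :=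
      ⟨hR.odd.of_dvd_nat (Subgroup.card_dvd_of_le inf_le_left),
        (le_inf hR.le_normalizer ((le_centralizer_of_mem hs.ab hzH).trans
          Subgroup.le_normalizer)).trans Subgroup.inf_normalizer_le_normalizer_inf,
        eq_bot_iff.2 (hR.inf_eq ▸ inf_le_inf_right _ inf_le_left)⟩
    exact hR'.le_of_cover hs.two hs.ab inf_le_right (le_centralizer_of_mem hs.ab hzH) hθn hθ hcov
  · haveI : (θ.subgroupOf (Subgroup.centralizer ({z} : Set G))).Normal :=
      Subgroup.normal_subgroupOf_of_le_normalizer hθn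
    have hdvd : ¬ 2 ∣ Nat.card (θ.subgroupOf (Subgroup.centralizer ({z} : Set G))) := by
      rw [Nat.card_congr (Subgroup.subgroupOfEquivOfLe hθC).toEquiv]
      exact hθ.not_two_dvd_nat
    exact ZStar.apply_mul_eq_of_mem hM
      ⟨1, by rw [orderOf_of_mem_invols hz hz1, pow_one]⟩ hχ _ hdvd
      (y := ⟨y, hθC hy⟩) (Subgroup.mem_subgroupOf.2 hy)

/-- The dichotomy for products of an involution of `H` with a conjugate of `t ∈ H`. -/
theorem exists_partner (hM : Cfsg.IsPModular 2 M) (hs : Setting H) {t : G} (ht : t ∈ invols H)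
    (ht1 : t ≠ 1) {s : G} (hts : IsConj t s) :
    ∃ o ∈ invols H, IsConj t o ∧ Odd (orderOf (o * s)) ∧ ∀ a ∈ invols H, a ≠ 1 → a ≠ o →
      ¬ Odd (orderOf (a * s)) ∧
        ∀ χ ∈ Cfsg.principalBlock M G,
          ((χ : IrrCharacter G) : G → ℂ) (a * s) = (χ : G → ℂ) (a * o) := by
  obtain ⟨g, hg⟩ := isConj_iff.1 hts
  obtain ⟨R, hR, -, -, κ, hκ, hn⟩ := exists_kernel hs.two hs.ab hs.cl g
  obtain ⟨o, ho⟩ : ∃ o, o = κ⁻¹ * g * t * (κ⁻¹ * g)⁻¹ := ⟨_, rfl⟩
  have hoA : o ∈ invols H := ho ▸ conj_mem_invols hn ht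
  have hse : s = κ * o * κ⁻¹ := by rw [ho, ← hg]; group
  have hRc : ∀ a ∈ invols H, ∀ x ∈ R, a * x * a⁻¹ ∈ R := fun a ha x hx =>
    (Subgroup.mem_normalizer_iff.1 (hR.le_normalizer (mem_invols.1 ha).1) x).1 hx
  refine ⟨o, hoA, ho ▸ isConj_iff.2 ⟨_, rfl⟩, ?_, fun a ha ha1 hne => ?_⟩
  · have h1 : o * s = o * κ * o⁻¹ * κ⁻¹ := by
      rw [hse, inv_eq_of_mem_invols hoA]; group
    exact hR.odd.of_dvd_nat (Subgroup.orderOf_dvd_natCard _
      (h1 ▸ mul_mem (hRc o hoA κ hκ) (inv_mem hκ)))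
  · obtain ⟨z, hz⟩ : ∃ z, z = a * o := ⟨_, rfl⟩
    have hzA : z ∈ invols H := hz ▸ mul_mem_invols hs.ab ha hoA
    have hz1 : z ≠ 1 := hz ▸ mul_ne_one_of_ne ha hne
    have hzo := orderOf_of_mem_invols hzA hz1
    have he : a * s = a * κ * a⁻¹ * (z * κ⁻¹ * z⁻¹) * z := by rw [hse, hz]; group
    obtain ⟨hnodd, c, hc, y, hy, hcomm, hconj⟩ := exists_conj_of_odd_coset hR.odd hzo
      (hR.le_normalizer (mem_invols.1 hzA).1)
      (mul_mem (hRc a ha κ hκ) (hRc z hzA _ (inv_mem hκ)))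
    rw [← he] at hnodd hconj
    refine ⟨hnodd, fun χ hχ => ?_⟩
    obtain ⟨θ, -, hθR, hval⟩ := exists_theta hM hs hzA hz1
    have hyθ : y ∈ θ := hθR R hR ⟨hy, Subgroup.mem_centralizer_singleton_iff.2 hcomm.eq⟩
    rw [← hz, ← hconj, Characters.isClassFunction_of_isIrr χ.2 (y * z) c, hcomm.eq,
      hval χ hχ y hyθ]

/-- A principal character of large value on a four-subgroup of `H` is linear. -/
theorem ival_one_of_four (hM : Cfsg.IsPModular 2 M) (hs : Setting H) {χ : IrrCharacter G}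
    (hχ : χ ∈ Cfsg.principalBlock M G) {a b : G} (ha : a ∈ invols H) (hb : b ∈ invols H)
    (ha1 : a ≠ 1) (hb1 : b ≠ 1) (hab : a ≠ b)
    (hlarge : 2 * ival χ 1 < ival χ a + ival χ b + ival χ (a * b)) : ival χ 1 = 1 := by
  classical
  haveI : Fact (Nat.Prime 2) := ⟨Nat.prime_two⟩
  obtain ⟨c, hcdef⟩ : ∃ c, c = a * b := ⟨_, rfl⟩
  rw [← hcdef] at hlarge
  have hc : c ∈ invols H := hcdef ▸ mul_mem_invols hs.ab ha hb
  have hc1 : c ≠ 1 := hcdef ▸ mul_ne_one_of_ne ha hab
  obtain ⟨θa, hθaC, hθaR, hθav⟩ := exists_theta hM hs ha ha1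
  obtain ⟨θb, hθbC, hθbR, hθbv⟩ := exists_theta hM hs hb hb1
  obtain ⟨θc, hθcC, hθcR, hθcv⟩ := exists_theta hM hs hc hc1
  obtain ⟨n, ρ, hρ, hρc⟩ := χ.2
  obtain ⟨W, hWdef⟩ : ∃ W : Subgroup G,
      W = Subgroup.closure {x | ∃ R : Subgroup G, IsKer H R ∧ x ∈ R} := ⟨_, rfl⟩
  have hWmem : ∀ R : Subgroup G, IsKer H R → R ≤ W := fun R hR x hx =>
    hWdef ▸ Subgroup.subset_closure ⟨R, hR, hx⟩
  have hWN : ∀ g : G, ∃ w ∈ W, w⁻¹ * g ∈ Subgroup.normalizer (H : Set G) := fun g => by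
    obtain ⟨R, hR, -, -, κ, hκ, hn⟩ := exists_kernel hs.two hs.ab hs.cl g
    exact ⟨κ, hWmem R hR hκ, hn⟩
  have hinv : ∀ n ∈ Subgroup.normalizer (H : Set G), W.map (MulAut.conj n).toMonoidHom ≤ W := by
    intro n hn
    rw [hWdef, MonoidHom.map_closure, Subgroup.closure_le]
    rintro _ ⟨x, ⟨R, hR, hx⟩, rfl⟩
    refine Subgroup.subset_closure ⟨R.map (MulAut.conj n).toMonoidHom, ⟨?_, ?_, ?_⟩,
      Subgroup.mem_map_of_mem _ hx⟩
    · rw [Subgroup.card_map_of_injective (MulAut.conj n).injective]; exact hR.odd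
    · intro h hh
      refine Subgroup.mem_normalizer_iff.2 fun y => ?_
      rw [mem_map_conj, mem_map_conj]
      have e : n⁻¹ * (h * y * h⁻¹) * n =
          n⁻¹ * h * n * (n⁻¹ * y * n) * (n⁻¹ * h * n)⁻¹ := by group
      rw [e]
      exact Subgroup.mem_normalizer_iff.1
        (hR.le_normalizer ((Subgroup.mem_normalizer_iff''.1 hn h).1 hh)) _
    · refine eq_bot_iff.2 fun y hy => ?_
      obtain ⟨x, hx, rfl⟩ := Subgroup.mem_map.1 hy.1
      have h2 : x ∈ R ⊓ Subgroup.normalizer (H : Set G) := ⟨hx, by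
        have := mul_mem (mul_mem (inv_mem hn) hy.2) hn
        simpa [mul_assoc] using this⟩
      rw [hR.inf_eq, Subgroup.mem_bot] at h2
      simp [h2]
  haveI : W.Normal := ⟨fun w hw g => by
    obtain ⟨v, hv, hn⟩ := hWN g
    have e : g * w * g⁻¹ = v * (v⁻¹ * g * w * (v⁻¹ * g)⁻¹) * v⁻¹ := by group
    rw [e]
    exact mul_mem (mul_mem hv (hinv _ hn ⟨w, hw, rfl⟩)) (inv_mem hv)⟩
  -- the four-group
  have hcomm : b * a = a * b :=
    (commute_of_mem hs.ab (mem_invols.1 hb).1 (mem_invols.1 ha).1).eq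
  let E : Subgroup G :=
    { carrier := {x | x = 1 ∨ x = a ∨ x = b ∨ x = c}
      one_mem' := Or.inl rfl
      mul_mem' := fun {x y} hx hy => by
        have haa := (mem_invols.1 ha).2
        have hbb := (mem_invols.1 hb).2
        have haax : ∀ w, a * (a * w) = w := fun w => by rw [← mul_assoc, haa, one_mul]
        have hbbx : ∀ w, b * (b * w) = w := fun w => by rw [← mul_assoc, hbb, one_mul]
        have hbax : ∀ w, b * (a * w) = a * (b * w) := fun w => by
          rw [← mul_assoc, hcomm, mul_assoc]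
        simp only [Set.mem_ofPred_eq] at hx hy ⊢
        rcases hx with rfl | rfl | rfl | rfl <;> rcases hy with rfl | rfl | rfl | rfl <;>
          simp [hcdef, mul_assoc, haa, hbb, haax, hbbx, hbax, hcomm]
      inv_mem' := fun {x} hx => by
        simp only [Set.mem_ofPred_eq] at hx ⊢
        rcases hx with rfl | rfl | rfl | rfl
        · simp
        · simp [inv_eq_of_mem_invols ha]
        · simp [inv_eq_of_mem_invols hb]
        · simp [inv_eq_of_mem_invols hc] }
  have hEA : ∀ x ∈ E, x ∈ invols H := by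
    rintro x (rfl | rfl | rfl | rfl)
    exacts [one_mem_invols, ha, hb, hc]
  have hEH : E ≤ H := fun x hx => (mem_invols.1 (hEA x hx)).1
  haveI : IsMulCommutative E := ⟨⟨fun x y =>
    Subtype.ext (commute_of_mem hs.ab (hEH x.2) (hEH y.2)).eq⟩⟩
  have hEcyc : ¬ IsCyclic E := fun h => by
    obtain ⟨g, hg⟩ := h.exists_generator
    have h1 : Nat.card E ≤ 2 := by
      rw [← orderOf_eq_card_of_forall_mem_zpowers hg]
      exact orderOf_le_of_pow_eq_one (by norm_num)
        (Subtype.ext (by push_cast; rw [pow_two]; exact (mem_invols.1 (hEA _ g.2)).2))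
    have h2 : 3 ≤ Nat.card E := by
      rw [Nat.card_eq_fintype_card]
      refine (Fintype.two_lt_card_iff).2 ⟨⟨1, E.one_mem⟩, ⟨a, Or.inr (Or.inl rfl)⟩,
        ⟨b, Or.inr (Or.inr (Or.inl rfl))⟩, ?_, ?_, ?_⟩ <;> simp [ha1.symm, hb1.symm, hab]
    omega
  have hW3 : W ≤ θa ⊔ θb ⊔ θc := by
    rw [hWdef, Subgroup.closure_le]
    rintro x ⟨R, hR, hx⟩
    obtain ⟨e, he⟩ := IsPGroup.iff_card.1 hs.two
    refine Coprime.le_of_forall_inf_centralizer_le hEcyc (hEH.trans hR.le_normalizer) ?_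
      (fun u hu hu1 => ?_) hx
    · exact Nat.Coprime.of_dvd_left (Subgroup.card_dvd_of_le hEH)
        (he ▸ Nat.Coprime.pow_left _ (Nat.coprime_two_left.2 hR.odd))
    · rcases hu with rfl | rfl | rfl | rfl
      · exact absurd rfl hu1
      · exact (hθaR R hR).trans (le_sup_left.trans le_sup_left)
      · exact (hθbR R hR).trans (le_sup_right.trans le_sup_left)
      · exact (hθcR R hR).trans le_sup_right
  have key : ∀ {x : G} {θ : Subgroup G}, x ∈ invols H → x ≠ 1 →
      θ ≤ Subgroup.centralizer ({x} : Set G) →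
      (∀ ψ ∈ Cfsg.principalBlock M G, ∀ y ∈ θ,
        ((ψ : IrrCharacter G) : G → ℂ) (x * y) = (ψ : G → ℂ) x) →
      ival χ x ≤ Module.finrank ℂ (Representation.invariants (ρ.comp θ.subtype)) :=
    fun hx hx1 hθ hv => char_le_finrank_invariants ρ (orderOf_of_mem_invols hx hx1) hθ
      (fun y hy => by rw [hρc]; exact hv χ hχ y hy)
      (by rw [hρc]; exact ival_spec χ (mem_invols.1 hx).2)
  have ka := key ha ha1 hθaC hθav
  have kb := key hb hb1 hθbC hθbv
  have kc := key hc hc1 hθcC hθcv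
  have hd : ival χ 1 = n := by
    have := ival_spec χ (one_mul 1)
    rw [← hρc, Representation.char_one, Module.finrank_fin_fun] at this
    exact_mod_cast this.symm
  have h1 := degree_one_of_large ρ hρ hs.ab hW3 hWN hs.gen (by omega)
  rw [hρc, ival_spec χ (one_mul 1)] at h1
  exact_mod_cast h1

open Classical in
/-- The principal block as a finite set. -/
noncomputable def blockSet (M : Ideal AlgInt) (G : Type u) [Group G] [Fintype G] :
    Finset (IrrCharacter G) :=
  Finset.univ.filter (· ∈ Cfsg.principalBlock M G)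

theorem mem_blockSet {χ : IrrCharacter G} :
    χ ∈ blockSet M G ↔ χ ∈ Cfsg.principalBlock M G := by
  simp [blockSet]

theorem sum_ival_mul_odd (hM : Cfsg.IsPModular 2 M) {a w : G} (ha : a ∈ invols H) (ha1 : a ≠ 1)
    (hw : Odd (orderOf w)) :
    ∑ χ ∈ blockSet M G, (ival χ a : ℂ) * (χ : G → ℂ) w = 0 := by
  classical
  haveI : Fact (Nat.Prime 2) := ⟨Nat.prime_two⟩
  have hao := orderOf_of_mem_invols ha ha1
  rw [blockSet, Finset.sum_filter]
  refine Eq.trans (Finset.sum_congr rfl fun χ _ => ?_) (sum_principal_mul_conj_eq_zero hM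
    (g := w⁻¹) ⟨1, by rw [hao, pow_one]⟩ fun z hz hconj => ?_)
  · split_ifs
    · obtain ⟨n, ρ, -, hρc⟩ := χ.2
      rw [ival_spec χ (mem_invols.1 ha).2, ← hρc, Characters.char_inv, Complex.conj_conj]
    · rfl
  · have hzc : Commute a (z : G) :=
      (Subgroup.mem_centralizer_singleton_iff.1 z.2).symm
    obtain ⟨g, hg⟩ := isConj_iff.1 hconj
    have h1 : Odd (orderOf (a * (z : G))) := by
      rw [← Small.orderOf_conj_eq g, hg, orderOf_inv]; exact hw
    have h2 : (a * (z : G)) ^ orderOf (z : G) = a := by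
      obtain ⟨j, hj⟩ : Odd (orderOf (z : G)) := by
        rw [Subgroup.orderOf_coe]
        exact Nat.not_even_iff_odd.1 fun h => hz (even_iff_two_dvd.1 h)
      rw [hzc.mul_pow, pow_orderOf_eq_one, mul_one, hj, pow_succ, pow_mul, pow_two,
        (mem_invols.1 ha).2, one_pow, one_mul]
    have h3 : orderOf a ∣ orderOf (a * (z : G)) := orderOf_dvd_of_pow_eq_one (by
      conv_lhs => arg 1; rw [← h2]
      rw [← pow_mul, mul_comm, pow_mul, pow_orderOf_eq_one, one_pow])
    rw [hao] at h3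
    exact Nat.not_even_iff_odd.2 h1 (even_iff_two_dvd.2 h3)

theorem sum_ival_mul_eq_zero (hM : Cfsg.IsPModular 2 M) {a b : G} (ha : a ∈ invols H)
    (ha1 : a ≠ 1) (hb : b ∈ invols H) (hne : ¬ IsConj a b) :
    ∑ χ ∈ blockSet M G, ival χ a * ival χ b = 0 := by
  classical
  haveI : Fact (Nat.Prime 2) := ⟨Nat.prime_two⟩
  have key : ∑ χ ∈ blockSet M G, (ival χ a : ℂ) * (ival χ b : ℂ) = 0 := by
    rw [blockSet, Finset.sum_filter]
    refine Eq.trans (Finset.sum_congr rfl fun χ _ => ?_) (sum_principal_mul_conj_eq_zero hM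
      (g := b) ⟨1, by rw [orderOf_of_mem_invols ha ha1, pow_one]⟩ fun z hz hconj => ?_)
    · split_ifs
      · rw [ival_spec χ (mem_invols.1 ha).2, ival_spec χ (mem_invols.1 hb).2, map_intCast]
      · rfl
    · obtain ⟨g, hg⟩ := isConj_iff.1 hconj
      have hzc : Commute a (z : G) :=
        (Subgroup.mem_centralizer_singleton_iff.1 z.2).symm
      have h1 : (a * (z : G)) ^ 2 = 1 := by
        have : a * (z : G) = g⁻¹ * b * g⁻¹⁻¹ := by rw [← hg]; group
        rw [this, conj_pow, pow_two, (mem_invols.1 hb).2, mul_one, mul_inv_cancel]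
      rw [hzc.mul_pow, pow_two, (mem_invols.1 ha).2, one_mul] at h1
      have h2 : orderOf (z : G) = 1 := by
        rcases (Nat.dvd_prime Nat.prime_two).1 (orderOf_dvd_of_pow_eq_one h1) with h | h
        · exact h
        · exact absurd (by rw [← Subgroup.orderOf_coe, h]) hz
      rw [orderOf_eq_one_iff.1 h2, mul_one] at hg
      exact hne (isConj_iff.2 ⟨g, hg⟩)
  exact_mod_cast key

theorem sum_class_eq (χ : IrrCharacter G) (t a : G) (K : Finset G)
    (hK : ∀ s, s ∈ K ↔ IsConj t s) :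
    ∑ s ∈ K, (χ : G → ℂ) (a * s) =
      (K.card : ℂ) * (χ : G → ℂ) t * (χ : G → ℂ) a / (χ : G → ℂ) 1 := by
  classical
  obtain rfl : K = Finset.univ.filter (IsConj t) := Finset.ext fun s => by simp [hK]
  have h := ZStar.sum_class_mul χ t a
  rw [← Finset.sum_filter] at h
  have h1 := ZStar.sum_class_mul (trivChar G) t a
  rw [← Finset.sum_filter] at h1
  simp only [Cfsg.centralChar] at h h1
  have h1' : ((Finset.univ.filter (IsConj t)).card : ℂ) =
      ((Subgroup.centralizer ({t} : Set G)).index : ℂ) := by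
    simpa using h1
  rw [h1', Finset.sum_congr rfl fun s _ =>
    Characters.classFunction_mul_comm (Characters.isClassFunction_of_isIrr χ.2) a s, h]
  ring

open Classical in
/-- The conjugates of `t` among the involutions of `H`. -/
noncomputable def orb (H : Subgroup G) (t : G) : Finset G := (invols H).filter (IsConj t)

theorem mem_orb {t a : G} : a ∈ orb H t ↔ a ∈ invols H ∧ IsConj t a := by
  simp [orb]

theorem ne_one_of_mem_orb {t a : G} (ht1 : t ≠ 1) (ha : a ∈ orb H t) : a ≠ 1 := by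
  rintro rfl
  exact ht1 (isConj_one_left.1 (mem_orb.1 ha).2)

theorem two_le_card_orb (hs : Setting H) {t : G} (ht : t ∈ invols H) (ht1 : t ≠ 1) :
    2 ≤ (orb H t).card := by
  obtain ⟨n, hn, hne⟩ := exists_conj_ne hs ht ht1
  exact Finset.one_lt_card.2 ⟨t, mem_orb.2 ⟨ht, IsConj.refl t⟩, n * t * n⁻¹,
    mem_orb.2 ⟨conj_mem_invols hn ht, isConj_iff.2 ⟨n, rfl⟩⟩, hne.symm⟩

/-- The two identities coming from the class sum of `t`. -/
theorem class_identities (hM : Cfsg.IsPModular 2 M) (hs : Setting H) [DecidableEq G] {t : G}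
    (ht : t ∈ invols H) (ht1 : t ≠ 1) :
    (∀ χ ∈ blockSet M G, ∀ a ∈ invols H, a ≠ 1 → ¬ IsConj t a →
      ((orb H t).card : ℤ) * ival χ t * ival χ a =
        ival χ 1 * ∑ o ∈ orb H t, ival χ (a * o)) ∧
    ∀ v ∈ invols H, v ≠ 1 → ∑ χ ∈ blockSet M G, (ival χ v : ℝ) *
      (((orb H t).card : ℝ) * (ival χ t : ℝ) ^ 2 / (ival χ 1 : ℝ) -
        ∑ o ∈ (orb H t).erase t, (ival χ (t * o) : ℝ)) = 0 := by
  classical
  obtain ⟨K, hK⟩ : ∃ K : Finset G, K = Finset.univ.filter (IsConj t) := ⟨_, rfl⟩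
  have hmemK : ∀ s, s ∈ K ↔ IsConj t s := fun s => by simp [hK]
  let fib : G → Finset G := fun o => K.filter fun s => Odd (orderOf (o * s))
  have hfib : ∀ (f : G → ℂ), ∑ s ∈ K, f s = ∑ o ∈ orb H t, ∑ s ∈ fib o, f s := fun f => by
    simp only [fib, Finset.sum_filter]
    rw [Finset.sum_comm]
    refine Finset.sum_congr rfl fun s hsK => ?_
    obtain ⟨o, ho, hto, hodd, huniq⟩ := exists_partner hM hs ht ht1 ((hmemK s).1 hsK)
    rw [Finset.sum_eq_single o (fun a ha hne => if_neg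
      (huniq a (mem_orb.1 ha).1 (ne_one_of_mem_orb ht1 ha) hne).1)
      (fun h => absurd (mem_orb.2 ⟨ho, hto⟩) h), if_pos hodd]
  have hval : ∀ o ∈ orb H t, ∀ s ∈ fib o, ∀ a ∈ invols H, a ≠ 1 → a ≠ o →
      ∀ χ ∈ blockSet M G, ((χ : IrrCharacter G) : G → ℂ) (a * s) = (ival χ (a * o) : ℂ) := by
    intro o ho s hsf a ha ha1 hne χ hχ
    simp only [fib, Finset.mem_filter] at hsf
    obtain ⟨o', ho', -, -, huniq⟩ := exists_partner hM hs ht ht1 ((hmemK s).1 hsf.1)
    obtain rfl : o = o' := by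
      by_contra h
      exact (huniq o (mem_orb.1 ho).1 (ne_one_of_mem_orb ht1 ho) h).1 hsf.2
    rw [(huniq a ha ha1 hne).2 χ (mem_blockSet.1 hχ),
      ival_spec χ (mem_invols.1 (mul_mem_invols hs.ab ha (mem_orb.1 ho).1)).2]
  have hfcard : ∀ o ∈ orb H t, (fib o).card = (fib t).card := by
    intro o ho
    obtain ⟨g, hg⟩ := isConj_iff.1 (mem_orb.1 ho).2
    symm
    refine Finset.card_nbij' (fun s => g * s * g⁻¹) (fun s => g⁻¹ * s * g) ?_ ?_
      (fun s _ => by group) (fun s _ => by group)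
    · intro s hs'
      simp only [fib, Finset.mem_coe, Finset.mem_filter, hmemK] at hs' ⊢
      refine ⟨hs'.1.trans (isConj_iff.2 ⟨g, rfl⟩), ?_⟩
      rw [← hg, conj_mul, Small.orderOf_conj_eq]
      exact hs'.2
    · intro s hs'
      simp only [fib, Finset.mem_coe, Finset.mem_filter, hmemK] at hs' ⊢
      refine ⟨hs'.1.trans (isConj_iff.2 ⟨g⁻¹, by rw [inv_inv]⟩), ?_⟩
      have e : t * (g⁻¹ * s * g) = g⁻¹ * (o * s) * g⁻¹⁻¹ := by rw [← hg]; group
      rw [e, Small.orderOf_conj_eq]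
      exact hs'.2
  have hKcard : (K.card : ℂ) = ((orb H t).card : ℂ) * (fib t).card := by
    have h1 := hfib fun _ => (1 : ℂ)
    rw [Finset.sum_const, nsmul_eq_mul, mul_one] at h1
    rw [h1, Finset.sum_congr rfl fun o ho => by
      rw [Finset.sum_const, nsmul_eq_mul, mul_one, hfcard o ho]]
    rw [Finset.sum_const, nsmul_eq_mul]
  have htfib : t ∈ fib t := by
    simp only [fib, Finset.mem_filter, hmemK]
    exact ⟨IsConj.refl t, by rw [(mem_invols.1 ht).2, orderOf_one]; exact odd_one⟩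
  have hF : ((fib t).card : ℂ) ≠ 0 :=
    Nat.cast_ne_zero.2 (Finset.card_ne_zero.2 ⟨t, htfib⟩)
  have hd : ∀ χ : IrrCharacter G, (ival χ 1 : ℂ) ≠ 0 := fun χ =>
    Int.cast_ne_zero.2 (ival_one_pos χ).ne'
  have htorb : t ∈ orb H t := mem_orb.2 ⟨ht, IsConj.refl t⟩
  constructor
  · intro χ hχ a ha ha1 hna
    have h := sum_class_eq χ t a K hmemK
    rw [hfib, Finset.sum_congr rfl fun o ho => Finset.sum_congr rfl fun s hsf =>
      hval o ho s hsf a ha ha1 (fun e => hna (e ▸ (mem_orb.1 ho).2)) χ hχ,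
      Finset.sum_congr rfl fun o ho => by rw [Finset.sum_const, nsmul_eq_mul, hfcard o ho],
      ← Finset.mul_sum, hKcard, ival_spec χ (one_mul 1), ival_spec χ (mem_invols.1 ht).2,
      ival_spec χ (mem_invols.1 ha).2, eq_div_iff (hd χ)] at h
    have h2 : ((orb H t).card : ℂ) * (ival χ t : ℂ) * (ival χ a : ℂ) =
        (ival χ 1 : ℂ) * ∑ o ∈ orb H t, (ival χ (a * o) : ℂ) :=
      mul_left_cancel₀ hF (by linear_combination -h)
    exact_mod_cast h2
  · intro v hv hv1
    have hP : ∀ χ ∈ blockSet M G, ∑ s ∈ fib t, ((χ : IrrCharacter G) : G → ℂ) (t * s) =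
        ((fib t).card : ℂ) * (((orb H t).card : ℂ) * (ival χ t : ℂ) ^ 2 / (ival χ 1 : ℂ) -
          ∑ o ∈ (orb H t).erase t, (ival χ (t * o) : ℂ)) := by
      intro χ hχ
      have h := sum_class_eq χ t t K hmemK
      have e1 : ∀ o ∈ (orb H t).erase t, ∑ s ∈ fib o, ((χ : IrrCharacter G) : G → ℂ) (t * s) =
          ((fib t).card : ℂ) * (ival χ (t * o) : ℂ) := fun o ho => by
        rw [Finset.sum_congr rfl fun s hsf => hval o (Finset.mem_of_mem_erase ho) s hsf t ht ht1
          (Finset.ne_of_mem_erase ho).symm χ hχ, Finset.sum_const, nsmul_eq_mul,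
          hfcard o (Finset.mem_of_mem_erase ho)]
      rw [hfib, ← Finset.add_sum_erase _ _ htorb, Finset.sum_congr rfl e1,
        ← Finset.mul_sum, hKcard, ival_spec χ (one_mul 1),
        ival_spec χ (mem_invols.1 ht).2] at h
      linear_combination h
    have h0 : ((fib t).card : ℂ) * ∑ χ ∈ blockSet M G, (ival χ v : ℂ) *
        (((orb H t).card : ℂ) * (ival χ t : ℂ) ^ 2 / (ival χ 1 : ℂ) -
          ∑ o ∈ (orb H t).erase t, (ival χ (t * o) : ℂ)) = 0 := by
      rw [Finset.mul_sum, Finset.sum_congr rfl fun χ hχ => by rw [mul_left_comm, ← hP χ hχ],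
        Finset.sum_congr rfl fun χ _ => Finset.mul_sum _ _ _, Finset.sum_comm]
      refine Finset.sum_eq_zero fun s hsf => sum_ival_mul_odd hM hv hv1 ?_
      exact (Finset.mem_filter.1 hsf).2
    have h1 := (mul_eq_zero.1 h0).resolve_left hF
    apply Complex.ofReal_injective
    push_cast
    exact h1

/-- Impossibility when all involutions of `H` are conjugate. -/
theorem not_transitive (hM : Cfsg.IsPModular 2 M) (hs : Setting H) [DecidableEq G] {t : G}
    (ht : t ∈ invols H) (ht1 : t ≠ 1) (hall : ∀ a ∈ invols H, a ≠ 1 → IsConj t a) : False := by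
  classical
  have hlin : ∀ f : G →* ℂˣ, ∀ g, f g = 1 := by
    intro f
    have key : ∀ i : ℕ, ∀ h ∈ H, h ^ (2 ^ i) = 1 → f h = 1 := by
      intro i
      induction i with
      | zero =>
        intro h _ he
        rw [pow_zero, pow_one] at he
        rw [he, map_one]
      | succ i ih =>
        intro h hh he
        obtain ⟨u, hu⟩ : ∃ u, u = h ^ (2 ^ i) := ⟨_, rfl⟩
        have huA : u ∈ invols H := mem_invols.2 ⟨hu ▸ pow_mem hh _, by
          rw [hu, ← pow_add, ← two_mul, ← pow_succ']; exact he⟩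
        by_cases hu1 : u = 1
        · exact ih h hh (hu ▸ hu1)
        obtain ⟨n, hn, hne⟩ := exists_conj_ne hs huA hu1
        have hu'A := conj_mem_invols hn huA
        have hh' : n * h * n⁻¹ ∈ H := (Subgroup.mem_normalizer_iff.1 hn h).1 hh
        have hcA := mul_mem_invols hs.ab huA hu'A
        have hc : IsConj (u * (n * u * n⁻¹)) u :=
          (hall _ hcA (mul_ne_one_of_ne huA (Ne.symm hne))).symm.trans (hall u huA hu1)
        obtain ⟨g, hg⟩ := isConj_iff.1 hc
        obtain ⟨m, hm, hme⟩ := exists_normalizer_conj hs.two hs.ab hs.cl (g := g)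
          (mem_invols.1 hcA).1 (hg.symm ▸ (mem_invols.1 huA).1)
        rw [hg] at hme
        obtain ⟨d0, hd0⟩ : ∃ d, d = h⁻¹ * (n * h * n⁻¹) := ⟨_, rfl⟩
        have hd0H : d0 ∈ H := hd0 ▸ mul_mem (inv_mem hh) hh'
        have hd0p : d0 ^ (2 ^ i) = u * (n * u * n⁻¹) := by
          rw [hd0, (commute_of_mem hs.ab (inv_mem hh) hh').mul_pow, inv_pow, conj_pow, ← hu,
            inv_eq_of_mem_invols huA]
        have hd1H : m * d0 * m⁻¹ ∈ H := (Subgroup.mem_normalizer_iff.1 hm d0).1 hd0H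
        have hlow : (h⁻¹ * (m * d0 * m⁻¹)) ^ (2 ^ i) = 1 := by
          rw [(commute_of_mem hs.ab (inv_mem hh) hd1H).mul_pow, inv_pow, conj_pow, hd0p, hme,
            ← hu, inv_mul_cancel]
        have h3 := ih _ (mul_mem (inv_mem hh) hd1H) hlow
        simpa [hd0, map_mul, map_inv, mul_comm, mul_left_comm, mul_assoc] using h3
    intro g
    have hle : Subgroup.normalClosure (H : Set G) ≤ f.ker :=
      Subgroup.normalClosure_le_normal fun h hh => by
        obtain ⟨e, he⟩ := hs.two ⟨h, hh⟩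
        exact key e h hh (by simpa using congrArg Subtype.val he)
    exact hle (hs.gen ▸ Subgroup.mem_top g)
  have htt := (mem_invols.1 ht).2
  obtain ⟨k, hk⟩ : ∃ k, k = (orb H t).card := ⟨_, rfl⟩
  have hmemorb : ∀ a, a ∈ orb H t ↔ a ∈ invols H ∧ a ≠ 1 := fun a =>
    ⟨fun h => ⟨(mem_orb.1 h).1, ne_one_of_mem_orb ht1 h⟩,
      fun h => mem_orb.2 ⟨h.1, hall a h.1 h.2⟩⟩
  obtain ⟨n, hn, hne⟩ := exists_conj_ne hs ht ht1
  obtain ⟨b, hb⟩ : ∃ b, b = n * t * n⁻¹ := ⟨_, rfl⟩
  rw [← hb] at hne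
  have hbA : b ∈ invols H := hb ▸ conj_mem_invols hn ht
  have hb1 : b ≠ 1 := fun h => ht1 (by rwa [hb, conj_eq_one_iff] at h)
  have htbA := mul_mem_invols hs.ab ht hbA
  have hk3 : 3 ≤ k := by
    rw [hk]
    refine Finset.two_lt_card.2 ⟨t, (hmemorb t).2 ⟨ht, ht1⟩, b, (hmemorb b).2 ⟨hbA, hb1⟩,
      t * b, (hmemorb _).2 ⟨htbA, mul_ne_one_of_ne ht (Ne.symm hne)⟩, Ne.symm hne, ?_, ?_⟩
    · intro h; exact hb1 (mul_eq_left.1 h.symm)
    · intro h; exact ht1 (mul_eq_right.1 h.symm)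
  have hconst : ∀ χ : IrrCharacter G, ∀ a ∈ invols H, a ≠ 1 → ival χ a = ival χ t := by
    intro χ a ha ha1
    obtain ⟨g, rfl⟩ := isConj_iff.1 (hall a ha ha1)
    exact ival_conj χ htt g
  have hB1 : trivChar G ∈ blockSet M G := mem_blockSet.2 trivChar_mem
  let f : IrrCharacter G → ℝ := fun χ =>
    (ival χ t : ℝ) ^ 2 * (((k : ℝ) - 1) - k * (ival χ t : ℝ) / (ival χ 1 : ℝ))
  have hI : ∑ χ ∈ blockSet M G, f χ = 0 := by
    have h := (class_identities hM hs ht ht1).2 t ht ht1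
    have e : ∀ χ ∈ blockSet M G, (ival χ t : ℝ) *
        (((orb H t).card : ℝ) * (ival χ t : ℝ) ^ 2 / (ival χ 1 : ℝ) -
          ∑ o ∈ (orb H t).erase t, (ival χ (t * o) : ℝ)) = - f χ := by
      intro χ _
      rw [Finset.sum_congr rfl fun o ho => by
        rw [hconst χ (t * o) (mul_mem_invols hs.ab ht (mem_orb.1 (Finset.mem_of_mem_erase ho)).1)
          (mul_ne_one_of_ne ht (Finset.ne_of_mem_erase ho).symm)],
        Finset.sum_const, nsmul_eq_mul, Finset.card_erase_of_mem ((hmemorb t).2 ⟨ht, ht1⟩),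
        ← hk, Nat.cast_sub (by omega), Nat.cast_one]
      simp only [f]
      ring
    rw [Finset.sum_congr rfl e, Finset.sum_neg_distrib, neg_eq_zero] at h
    exact h
  have hbound : ∀ χ ∈ blockSet M G, χ ≠ trivChar G → 3 * ival χ t ≤ 2 * ival χ 1 := by
    intro χ hχ hne1
    by_contra hlt
    apply hne1
    have h1 := ival_one_of_four hM hs (mem_blockSet.1 hχ) ht hbA ht1 hb1 (Ne.symm hne) (by
      rw [hconst χ b hbA hb1, hconst χ (t * b) htbA (mul_ne_one_of_ne ht (Ne.symm hne))]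
      omega)
    obtain ⟨φ, hφ⟩ := Characters.exists_hom_of_degree_one (Characters.isCharacter_of_isIrr χ.2)
      (by rw [ival_spec χ (one_mul 1), h1, Int.cast_one])
    refine Subtype.ext (funext fun g => ?_)
    rw [hφ]
    simp [hlin φ g]
  have hnonneg : ∀ χ ∈ blockSet M G, χ ≠ trivChar G → 0 ≤ f χ := by
    intro χ hχ hne1
    have h1 : (3 : ℝ) * ival χ t ≤ 2 * ival χ 1 := by exact_mod_cast hbound χ hχ hne1
    have h2 : (0 : ℝ) < ival χ 1 := by exact_mod_cast ival_one_pos χ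
    have h3 : (3 : ℝ) ≤ k := by exact_mod_cast hk3
    refine mul_nonneg (sq_nonneg _) ?_
    rw [sub_nonneg, div_le_iff₀ h2]
    nlinarith [mul_le_mul_of_nonneg_left h1 (by linarith : (0 : ℝ) ≤ k),
      mul_nonneg (sub_nonneg.2 h3) h2.le]
  obtain ⟨χ₀, hχ₀, hneg⟩ : ∃ χ ∈ blockSet M G, ival χ t ≤ -1 := by
    by_contra hno
    push Not at hno
    have h := sum_ival_mul_eq_zero (M := M) hM ht ht1 one_mem_invols
      (fun h => ht1 (isConj_one_left.1 h))
    have hpos : 0 < ∑ χ ∈ blockSet M G, ival χ t * ival χ 1 :=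
      Finset.sum_pos' (fun χ hχ => mul_nonneg (by have := hno χ hχ; omega) (ival_one_pos χ).le)
        ⟨trivChar G, hB1, by rw [ival_trivChar htt, ival_trivChar (one_mul 1)]; norm_num⟩
    omega
  have hne0 : trivChar G ≠ χ₀ := fun h => by
    rw [← h, ival_trivChar htt] at hneg
    omega
  have hle := Finset.sum_le_sum_of_subset_of_nonneg (f := f)
    (s := {trivChar G, χ₀}) (t := blockSet M G)
    (by simp [Finset.insert_subset_iff, hB1, hχ₀])
    (fun χ hχ hnot => hnonneg χ hχ fun e => hnot (by simp [e]))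
  rw [hI, Finset.sum_pair hne0] at hle
  have hf1 : f (trivChar G) = -1 := by
    simp only [f, ival_trivChar htt, ival_trivChar (one_mul (1 : G))]
    push_cast
    ring
  have hf0 : 2 ≤ f χ₀ := by
    have h2 : (0 : ℝ) < ival χ₀ 1 := by exact_mod_cast ival_one_pos χ₀
    have h3 : (3 : ℝ) ≤ k := by exact_mod_cast hk3
    have h4 : (ival χ₀ t : ℝ) ≤ -1 := by exact_mod_cast hneg
    have h5 : (k : ℝ) * (ival χ₀ t : ℝ) / (ival χ₀ 1 : ℝ) ≤ 0 :=
      div_nonpos_of_nonpos_of_nonneg (mul_nonpos_of_nonneg_of_nonpos (by linarith) (by linarith))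
        h2.le
    have h6 : (1 : ℝ) ≤ (ival χ₀ t : ℝ) ^ 2 := by nlinarith
    calc (2 : ℝ) = 1 * 2 := (one_mul 2).symm
      _ ≤ f χ₀ := mul_le_mul h6 (by linarith) (by norm_num) (sq_nonneg _)
  linarith

open Classical in
/-- The sum of a character over the involutions of `H` is a multiple of their number. -/
theorem sum_invols_nonneg (hab : IsMulCommutative H) (χ : IrrCharacter G) :
    0 ≤ ∑ a ∈ invols H, ival χ a := by
  let A : Subgroup G :=
    { carrier := {a | a ∈ invols H}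
      one_mem' := one_mem_invols
      mul_mem' := fun ha hb => mul_mem_invols hab ha hb
      inv_mem' := fun {a} ha => by
        simp only [Set.mem_ofPred_eq] at ha ⊢
        rwa [inv_eq_of_mem_invols ha] }
  obtain ⟨m, hm⟩ := Characters.classInner_characters
    (Characters.isCharacter_restrict A (Characters.isCharacter_of_isIrr χ.2))
    (Characters.isCharacter_one (G := A))
  rw [Cfsg.classInner, inv_mul_eq_iff_eq_mul₀ Characters.natCard_ne_zero] at hm
  simp only [map_one, mul_one] at hm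
  rw [← Finset.sum_subtype (p := (· ∈ A)) (invols H) (fun x => Iff.rfl) (fun g => (χ : G → ℂ) g),
    Finset.sum_congr rfl fun a ha => ival_spec χ (mem_invols.1 ha).2] at hm
  have : ∑ a ∈ invols H, ival χ a = (Nat.card A : ℤ) * m := by exact_mod_cast hm
  rw [this]
  positivity

/-- Consequence of the class identities when `t` has a non-conjugate in `H`. -/
theorem sum_identity (hM : Cfsg.IsPModular 2 M) (hs : Setting H) [DecidableEq G] {t : G}
    (ht : t ∈ invols H) (ht1 : t ≠ 1) {χ : IrrCharacter G} (hχ : χ ∈ blockSet M G) :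
    ((orb H t).card : ℤ) * ival χ t ^ 2 -
        ival χ 1 * ∑ o ∈ (orb H t).erase t, ival χ (t * o) =
      (ival χ t - ival χ 1) * (∑ a ∈ invols H, ival χ a) + ival χ 1 ^ 2 := by
  classical
  have hk : ((orb H t).card : ℤ) ≠ 0 := by
    have := two_le_card_orb hs ht ht1
    omega
  have hsub : insert 1 (orb H t) ⊆ invols H :=
    Finset.insert_subset one_mem_invols fun a ha => (mem_orb.1 ha).1
  have h1nm : (1 : G) ∉ orb H t := fun h => ne_one_of_mem_orb ht1 h rfl
  have hot : ∀ o ∈ orb H t, ival χ o = ival χ t := fun o ho => by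
    obtain ⟨g, rfl⟩ := isConj_iff.1 (mem_orb.1 ho).2
    exact ival_conj χ (mem_invols.1 ht).2 g
  have hsplit : ∀ f : G → ℤ, ∑ a ∈ invols H \ insert 1 (orb H t), f a =
      (∑ a ∈ invols H, f a) - f 1 - ∑ a ∈ orb H t, f a := fun f => by
    rw [← Finset.sum_sdiff hsub, Finset.sum_insert h1nm]
    ring
  have hE := Finset.sum_congr (rfl : invols H \ insert 1 (orb H t) = _) fun a ha =>
    (class_identities hM hs ht ht1).1 χ hχ a (Finset.mem_sdiff.1 ha).1
      (fun e => (Finset.mem_sdiff.1 ha).2 (e ▸ Finset.mem_insert_self _ _))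
      (fun e => (Finset.mem_sdiff.1 ha).2
        (Finset.mem_insert_of_mem (mem_orb.2 ⟨(Finset.mem_sdiff.1 ha).1, e⟩)))
  have hin : ∀ o ∈ orb H t, ∑ a ∈ invols H \ insert 1 (orb H t), ival χ (a * o) =
      (∑ a ∈ invols H, ival χ a) - ival χ t - ival χ 1 -
        ∑ o' ∈ (orb H t).erase t, ival χ (t * o') := by
    intro o ho
    have hoA := (mem_orb.1 ho).1
    have hoo := (mem_invols.1 hoA).2
    rw [hsplit (fun a => ival χ (a * o)), one_mul, hot o ho, ← Finset.add_sum_erase _ _ ho, hoo]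
    have e1 : ∑ a ∈ invols H, ival χ (a * o) = ∑ a ∈ invols H, ival χ a :=
      Finset.sum_nbij' (fun a => a * o) (fun a => a * o)
        (fun a ha => mul_mem_invols hs.ab ha hoA) (fun a ha => mul_mem_invols hs.ab ha hoA)
        (fun a _ => by simp [mul_assoc, hoo]) (fun a _ => by simp [mul_assoc, hoo])
        (fun a _ => rfl)
    obtain ⟨g, hg⟩ := isConj_iff.1 (mem_orb.1 ho).2
    obtain ⟨n, hn, hne⟩ := exists_normalizer_conj hs.two hs.ab hs.cl (g := g)
      (mem_invols.1 ht).1 (hg.symm ▸ (mem_invols.1 hoA).1)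
    rw [hg] at hne
    have hinvN : n⁻¹ ∈ Subgroup.normalizer (H : Set G) := inv_mem hn
    have e2 : ∑ o' ∈ (orb H t).erase t, ival χ (t * o') =
        ∑ a ∈ (orb H t).erase o, ival χ (a * o) := by
      refine Finset.sum_nbij' (fun a => n * a * n⁻¹) (fun a => n⁻¹ * a * n⁻¹⁻¹) ?_ ?_
        (fun a _ => by group) (fun a _ => by group) ?_
      · intro a ha
        obtain ⟨ha1, ha2⟩ := Finset.mem_erase.1 ha
        refine Finset.mem_erase.2 ⟨fun e => ha1 ?_, mem_orb.2
          ⟨conj_mem_invols hn (mem_orb.1 ha2).1,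
            (mem_orb.1 ha2).2.trans (isConj_iff.2 ⟨n, rfl⟩)⟩⟩
        rw [← hne] at e
        exact mul_left_cancel (mul_right_cancel e)
      · intro a ha
        obtain ⟨ha1, ha2⟩ := Finset.mem_erase.1 ha
        refine Finset.mem_erase.2 ⟨fun e => ha1 ?_, mem_orb.2
          ⟨conj_mem_invols hinvN (mem_orb.1 ha2).1,
            (mem_orb.1 ha2).2.trans (isConj_iff.2 ⟨n⁻¹, rfl⟩)⟩⟩
        rw [← hne, ← e]
        group
      · intro a ha
        have haA := (mem_orb.1 (Finset.mem_of_mem_erase ha)).1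
        rw [← ival_conj χ (mem_invols.1 (mul_mem_invols hs.ab ht haA)).2 n]
        congr 1
        rw [← hne, (commute_of_mem hs.ab (mem_invols.1 ht).1 (mem_invols.1 haA).1).eq]
        group
    rw [e1, e2]
    ring
  simp only [← Finset.mul_sum] at hE
  rw [Finset.sum_comm, Finset.sum_congr rfl hin, Finset.sum_const, hsplit,
    Finset.sum_congr rfl hot, Finset.sum_const, nsmul_eq_mul, nsmul_eq_mul] at hE
  apply mul_left_cancel₀ hk
  linear_combination -hE

/-- The reduced configuration does not exist. -/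
theorem false_of_setting (hs : Setting H) (hH : H ≠ ⊥) : False := by
  classical
  haveI : Fact (Nat.Prime 2) := ⟨Nat.prime_two⟩
  obtain ⟨M, hM⟩ := exists_isPModular 2 Nat.prime_two
  haveI : M.IsPrime := hM.2.1.isPrime
  obtain ⟨t, ht, ht1⟩ : ∃ t ∈ invols H, t ≠ 1 := by
    obtain ⟨e, he⟩ := IsPGroup.iff_card.1 hs.two
    have he0 : e ≠ 0 := fun h => hH (Subgroup.card_eq_one.1 (by rw [he, h, pow_zero]))
    obtain ⟨x, hx⟩ := exists_prime_orderOf_dvd_card' (G := H) 2 (he ▸ dvd_pow_self 2 he0)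
    rw [← Subgroup.orderOf_coe] at hx
    exact ⟨x, mem_invols.2 ⟨x.2, Small.mul_self_of_orderOf_two hx⟩,
      fun h => by simp [h] at hx⟩
  by_cases hall : ∀ a ∈ invols H, a ≠ 1 → IsConj t a
  · exact not_transitive hM hs ht ht1 hall
  push Not at hall
  obtain ⟨a₀, ha₀, ha₀1, hna₀⟩ := hall
  let S : IrrCharacter G → ℝ := fun χ => ∑ a ∈ invols H, (ival χ a : ℝ)
  let R : IrrCharacter G → ℝ := fun χ => S χ / (ival χ 1 : ℝ)
  have hd : ∀ χ : IrrCharacter G, (0 : ℝ) < ival χ 1 := fun χ => by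
    exact_mod_cast ival_one_pos χ
  have hS0 : ∀ χ, 0 ≤ S χ := fun χ => by
    have := sum_invols_nonneg hs.ab χ
    simp only [S]
    exact_mod_cast this
  have horth : ∀ a b : G, a ∈ invols H → a ≠ 1 → b ∈ invols H → ¬ IsConj a b →
      ∑ χ ∈ blockSet M G, (ival χ a : ℝ) * (ival χ b : ℝ) = 0 := fun a b h1 h2 h3 h4 => by
    exact_mod_cast sum_ival_mul_eq_zero hM h1 h2 h3 h4
  have hT : ∀ u ∈ invols H, u ≠ 1 → ∀ v ∈ invols H, v ≠ 1 →
      ∑ χ ∈ blockSet M G, (ival χ v : ℝ) * (ival χ u : ℝ) * R χ =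
        ∑ χ ∈ blockSet M G, (ival χ v : ℝ) * S χ := by
    intro u hu hu1 v hv hv1
    have h1 := (class_identities hM hs hu hu1).2 v hv hv1
    have h0 := horth v 1 hv hv1 one_mem_invols fun h => hv1 (isConj_one_left.1 h)
    have e : ∀ χ ∈ blockSet M G, (ival χ v : ℝ) *
        (((orb H u).card : ℝ) * (ival χ u : ℝ) ^ 2 / (ival χ 1 : ℝ) -
          ∑ o ∈ (orb H u).erase u, (ival χ (u * o) : ℝ)) =
        (ival χ v : ℝ) * (ival χ u : ℝ) * R χ - (ival χ v : ℝ) * S χ +
          (ival χ v : ℝ) * (ival χ 1 : ℝ) := by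
      intro χ hχ
      have hid : ((orb H u).card : ℝ) * (ival χ u : ℝ) ^ 2 -
          (ival χ 1 : ℝ) * ∑ o ∈ (orb H u).erase u, (ival χ (u * o) : ℝ) =
          ((ival χ u : ℝ) - ival χ 1) * S χ + (ival χ 1 : ℝ) ^ 2 := by
        simp only [S]
        exact_mod_cast sum_identity hM hs hu hu1 hχ
      have := (hd χ).ne'
      simp only [R]
      field_simp
      linear_combination (ival χ v : ℝ) * hid
    rw [Finset.sum_congr rfl e, Finset.sum_add_distrib, Finset.sum_sub_distrib, h0] at h1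
    linarith
  have hsquare : ∀ χ ∈ blockSet M G, ∀ v ∈ invols H, v ≠ 1 → S χ ≠ 0 → ival χ v = ival χ t := by
    intro χ hχ v hv hv1 hSne
    have e1 := hT v hv hv1 v hv hv1
    have e2 := hT t ht ht1 v hv hv1
    have e3 := hT v hv hv1 t ht ht1
    have e4 := hT t ht ht1 t ht ht1
    have hsum : ∑ ψ ∈ blockSet M G, R ψ * ((ival ψ v : ℝ) - ival ψ t) ^ 2 = 0 := by
      rw [show ∑ ψ ∈ blockSet M G, R ψ * ((ival ψ v : ℝ) - ival ψ t) ^ 2 =
        ∑ ψ ∈ blockSet M G, (ival ψ v : ℝ) * (ival ψ v : ℝ) * R ψ -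
          ∑ ψ ∈ blockSet M G, (ival ψ v : ℝ) * (ival ψ t : ℝ) * R ψ -
          ∑ ψ ∈ blockSet M G, (ival ψ t : ℝ) * (ival ψ v : ℝ) * R ψ +
          ∑ ψ ∈ blockSet M G, (ival ψ t : ℝ) * (ival ψ t : ℝ) * R ψ by
        simp only [← Finset.sum_sub_distrib, ← Finset.sum_add_distrib]
        exact Finset.sum_congr rfl fun ψ _ => by ring]
      linarith
    have h := (Finset.sum_eq_zero_iff_of_nonneg fun ψ _ =>
      mul_nonneg (div_nonneg (hS0 ψ) (hd ψ).le) (sq_nonneg _)).1 hsum χ hχ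
    rcases mul_eq_zero.1 h with h | h
    · exact absurd ((div_eq_zero_iff.1 h).resolve_right (hd χ).ne') hSne
    · have := pow_eq_zero_iff (n := 2) two_ne_zero |>.1 h
      exact_mod_cast sub_eq_zero.1 this
  have hk2 := two_le_card_orb hs ht ht1
  obtain ⟨n, hn, hne⟩ := exists_conj_ne hs ht ht1
  let L := (blockSet M G).filter fun χ => ival χ 1 = 1 ∧ ∀ a ∈ invols H, ival χ a = 1
  have hterm : ∀ χ ∈ blockSet M G, (ival χ t : ℝ) * (ival χ t : ℝ) * R χ =
      if χ ∈ L then ((invols H).card : ℝ) else 0 := by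
    intro χ hχ
    by_cases hL : χ ∈ L
    · rw [if_pos hL]
      obtain ⟨-, h1, h2⟩ := Finset.mem_filter.1 hL
      simp only [R, S]
      rw [Finset.sum_congr rfl fun a ha => by rw [h2 a ha], h2 t ht, h1]
      simp
    rw [if_neg hL]
    by_cases hSne : S χ = 0
    · simp [R, hSne]
    by_cases hx0 : ival χ t = 0
    · simp [hx0]
    exfalso
    have hE := (class_identities hM hs ht ht1).1 χ hχ a₀ ha₀ ha₀1 hna₀
    have hout : ∀ o ∈ orb H t, ival χ (a₀ * o) = ival χ t := fun o ho =>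
      hsquare χ hχ _ (mul_mem_invols hs.ab ha₀ (mem_orb.1 ho).1)
        (mul_ne_one_of_ne ha₀ fun e => hna₀ (e ▸ (mem_orb.1 ho).2)) hSne
    rw [hsquare χ hχ a₀ ha₀ ha₀1 hSne, Finset.sum_congr rfl hout, Finset.sum_const,
      nsmul_eq_mul] at hE
    have hk0 : ((orb H t).card : ℤ) * ival χ t ≠ 0 := mul_ne_zero (by omega) hx0
    have hxd : ival χ t = ival χ 1 := mul_left_cancel₀ hk0 (by linear_combination hE)
    have hbA := conj_mem_invols hn ht
    have hb1 : n * t * n⁻¹ ≠ 1 := fun h => ht1 (by rwa [conj_eq_one_iff] at h)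
    have hd1 := ival_one_of_four hM hs (mem_blockSet.1 hχ) ht hbA ht1 hb1 (Ne.symm hne) (by
      rw [hsquare χ hχ _ hbA hb1 hSne, hsquare χ hχ _ (mul_mem_invols hs.ab ht hbA)
        (mul_ne_one_of_ne ht (Ne.symm hne)) hSne, hxd]
      have := ival_one_pos χ
      omega)
    refine hL (Finset.mem_filter.2 ⟨hχ, hd1, fun a ha => ?_⟩)
    by_cases ha1 : a = 1
    · rw [ha1, hd1]
    · rw [hsquare χ hχ a ha ha1 hSne, hxd, hd1]
  have hTtt : ∑ χ ∈ blockSet M G, (ival χ t : ℝ) * (ival χ t : ℝ) * R χ ≤ Nat.card H := by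
    rw [Finset.sum_congr rfl hterm, Finset.sum_ite_mem,
      Finset.inter_eq_right.2 (Finset.filter_subset _ _), Finset.sum_const, nsmul_eq_mul]
    have h := card_linear_mul_card_le hs.gen (invols H) (fun a ha => (mem_invols.1 ha).1) L
      (fun χ hχ => by rw [ival_spec χ (one_mul 1), (Finset.mem_filter.1 hχ).2.1, Int.cast_one])
      (fun χ hχ a ha => by
        rw [ival_spec χ (mem_invols.1 ha).2, (Finset.mem_filter.1 hχ).2.2 a ha, Int.cast_one])
    rw [mul_comm]
    exact_mod_cast h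
  obtain ⟨C, hC⟩ : ∃ C, C = ∑ χ ∈ blockSet M G, (ival χ t : ℝ) ^ 2 := ⟨_, rfl⟩
  have hH : ∑ χ ∈ blockSet M G, (ival χ t : ℝ) * S χ = ((orb H t).card : ℝ) * C := by
    simp only [S, Finset.mul_sum]
    rw [Finset.sum_comm]
    rw [← Finset.sum_subset (s₁ := orb H t) (fun a ha => (mem_orb.1 ha).1) fun a ha hna =>
      horth t a ht ht1 ha fun e => hna (mem_orb.2 ⟨ha, e⟩)]
    rw [Finset.sum_congr rfl fun a ha => ?_]
    · rw [Finset.sum_const, nsmul_eq_mul]
    · rw [hC]
      refine Finset.sum_congr rfl fun χ _ => ?_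
      obtain ⟨g, rfl⟩ := isConj_iff.1 (mem_orb.1 ha).2
      rw [ival_conj χ (mem_invols.1 ht).2 g, pow_two]
  have hCge : (Nat.card H : ℝ) ≤ C := by
    have h := card_le_column_norm hM ⟨1, by rw [orderOf_of_mem_invols ht ht1, pow_one]⟩ hs.two
      (le_centralizer_of_mem hs.ab (mem_invols.1 ht).1)
    rw [hC]
    refine h.trans (le_of_eq ?_)
    rw [blockSet, Finset.sum_filter]
    refine Finset.sum_congr rfl fun χ _ => ?_
    split_ifs
    · rw [ival_spec χ (mem_invols.1 ht).2, Complex.norm_intCast, sq_abs]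
    · rfl
  have h4 := hT t ht ht1 t ht ht1
  rw [hH] at h4
  rw [h4] at hTtt
  have hpos : (0 : ℝ) < Nat.card H := by exact_mod_cast Nat.card_pos
  have hk : (2 : ℝ) ≤ (orb H t).card := by exact_mod_cast hk2
  nlinarith

end Main

end CfsgLib.ExtremelyClosed
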